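import Mathlib
import Cfsg.Agent.Lib.SL2Recog.Basic
import Cfsg.Agent.Lib.ConjFunctor.Basic
import Cfsg.Agent.Lib.FusionMod.Basic

/-!
# Offenders of groups with a unique maximal subgroup above a Sylow subgroup: basic notions

`H` acts on a finite module `V` of exponent `p`. A member is a minimal nontrivial elementary
abelian subgroup `A` with `|A| |C_V(A)| = |V|`.
-/

set_option autoImplicit false
set_option linter.unusedSectionVars false

namespace Cfsg.Agent.Lib.FFMin

open Subgroup SL2Recog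
open scoped Pointwise

variable {H V : Type*} [Group H] [AddCommGroup V] [DistribMulAction H V] {p : ℕ}

/-- An elementary abelian `p`-subgroup. -/
structure Elem (p : ℕ) (A : Subgroup H) : Prop where
  comm : ∀ a ∈ A, ∀ b ∈ A, a * b = b * a
  pow : ∀ a ∈ A, a ^ p = 1

/-- Elementwise commuting subgroups. -/
def Comm (A B : Subgroup H) : Prop := ∀ a ∈ A, ∀ b ∈ B, a * b = b * a

/-- `M` is proper, contains a Sylow `p`-subgroup, and contains every proper subgroup above a
Sylow `p`-subgroup that it contains. -/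
def UMax (p : ℕ) (M : Subgroup H) : Prop :=
  M ≠ ⊤ ∧ (∃ T : Sylow p H, (T : Subgroup H) ≤ M) ∧
    ∀ T : Sylow p H, (T : Subgroup H) ≤ M → ∀ L : Subgroup H, L ≠ ⊤ → (T : Subgroup H) ≤ L → L ≤ M

/-- Trivial `p`-core and a unique maximal overgroup of a Sylow `p`-subgroup. -/
structure Hyp (p : ℕ) (H : Type*) [Group H] : Prop where
  core : ∀ N : Subgroup H, N.Normal → IsPGroup p N → N = ⊥
  exists_max : ∃ M : Subgroup H, UMax p M

/-- A member: a minimal offender. -/
structure Mem (p : ℕ) (V : Type*) [AddCommGroup V] [DistribMulAction H V] (A : Subgroup H) :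
    Prop where
  ne_bot : A ≠ ⊥
  elem : Elem p A
  meas_eq : meas V A = Nat.card V
  strict : ∀ B : Subgroup H, B ≤ A → B ≠ ⊥ → B ≠ A → meas V B < Nat.card V

/-- Quadratic action. -/
def Quad (V : Type*) [AddCommGroup V] [DistribMulAction H V] (A : Subgroup H) : Prop :=
  ∀ a ∈ A, ∀ v : V, dev a v ∈ fx V A

/-- No elementary abelian subgroup is an over-offender. -/
def Bound (p : ℕ) (H V : Type*) [Group H] [AddCommGroup V] [DistribMulAction H V] : Prop :=
  ∀ A : Subgroup H, Elem p A → meas V A ≤ Nat.card V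

/-- Members act semiregularly. -/
def Semi (p : ℕ) (H V : Type*) [Group H] [AddCommGroup V] [DistribMulAction H V] : Prop :=
  ∀ A : Subgroup H, Mem p V A → ∀ a ∈ A, a ≠ 1 → ∀ v : V, a • v = v → v ∈ fx V A

/-- A vector fixed by a Sylow subgroup is moved. -/
def Moved (p : ℕ) (H V : Type*) [Group H] [AddCommGroup V] [DistribMulAction H V] : Prop :=
  ∃ T : Sylow p H, ∃ z : V, (∀ t ∈ (T : Subgroup H), t • z = z) ∧ ∃ g : H, g • z ≠ z

/-- Members of the Sylow subgroup `T`. -/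
def members (p : ℕ) (V : Type*) [AddCommGroup V] [DistribMulAction H V] (T : Subgroup H) :
    Set (Subgroup H) :=
  {A | Mem p V A ∧ A ≤ T}

/-- The subgroup generated by the members inside `T`. -/
def memSup (p : ℕ) (V : Type*) [AddCommGroup V] [DistribMulAction H V] (T : Subgroup H) :
    Subgroup H :=
  sSup (members p V T)

/-! ### `dev` -/

/-- `dev a` as an additive map. -/
def devHom (V : Type*) [AddCommGroup V] [DistribMulAction H V] (a : H) : V →+ V :=
  AddMonoidHom.mk' (dev a) (dev_add a)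

@[simp] theorem devHom_apply (a : H) (v : V) : devHom V a v = dev a v := rfl

theorem dev_zero (a : H) : dev a (0 : V) = 0 := by simp [dev]

theorem dev_sub (a : H) (v w : V) : dev a (v - w) = dev a v - dev a w := map_sub (devHom V a) v w

theorem dev_eq_zero_iff {a : H} {v : V} : dev a v = 0 ↔ a • v = v := sub_eq_zero

theorem dev_one (v : V) : dev (1 : H) v = 0 := by simp [dev]

theorem smul_dev (g a : H) (v : V) : g • dev a v = dev (g * a * g⁻¹) (g • v) := by
  simp [dev, smul_sub, mul_smul]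

theorem dev_inv (a : H) (v : V) : dev a⁻¹ v = -dev a (a⁻¹ • v) := by simp [dev]

theorem eq_one_of_dev [FaithfulSMul H V] {a : H} (h : ∀ v : V, dev a v = 0) : a = 1 :=
  eq_of_smul_eq_smul fun v : V => by rw [one_smul]; exact dev_eq_zero_iff.1 (h v)

/-- `(a b) v - (b a) v` through the commutator. -/
theorem dev_dev_sub (a b : H) (v : V) :
    dev a (dev b v) - dev b (dev a v) = (a * b) • v - (b * a) • v := by
  simp only [dev, smul_sub, mul_smul]
  abel

/-! ### Fixed points and cardinalities -/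

theorem card_mul_le [Finite V] {P Q R : AddSubgroup V} (hP : P ≤ R) (hQ : Q ≤ R) :
    Nat.card P * Nat.card Q ≤ Nat.card R * Nat.card ↥(P ⊓ Q) := by
  rw [← card_sup_mul_inf]
  exact Nat.mul_le_mul_right _ (AddSubgroup.card_le_of_le (sup_le hP hQ))

theorem card_range_mul_ker [Finite V] (f : V →+ V) :
    Nat.card f.range * Nat.card f.ker = Nat.card V := by
  rw [f.ker.card_eq_card_quotient_mul_card_addSubgroup,
    Nat.card_congr (QuotientAddGroup.quotientKerEquivRange f).toEquiv]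

theorem smul_mem_fx {A : Subgroup H} {g : H} (hg : g ∈ normalizer (A : Set H)) {v : V}
    (hv : v ∈ fx V A) : g • v ∈ fx V A := by
  intro a ha
  have h1 : g⁻¹ * a * g ∈ A := by
    have := (mem_normalizer_iff.1 (inv_mem hg) a).1 ha
    simpa using this
  have h2 := hv _ h1
  rw [mul_smul, mul_smul, inv_smul_eq_iff] at h2
  exact h2

/-! ### Elementary subgroups -/

theorem Elem.mono {A B : Subgroup H} (hA : Elem p A) (h : B ≤ A) : Elem p B :=
  ⟨fun a ha b hb => hA.comm a (h ha) b (h hb), fun a ha => hA.pow a (h ha)⟩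

theorem Elem.cnj {A : Subgroup H} (hA : Elem p A) (g : H) : Elem p (cnj g A) := by
  refine ⟨?_, ?_⟩
  · rintro _ ⟨a, ha, rfl⟩ _ ⟨b, hb, rfl⟩
    rw [← map_mul, ← map_mul, hA.comm a ha b hb]
  · rintro _ ⟨a, ha, rfl⟩
    rw [← map_pow, hA.pow a ha, map_one]

theorem Elem.isPGroup {A : Subgroup H} (hA : Elem p A) : IsPGroup p A :=
  fun a => ⟨1, Subtype.ext (by simpa using hA.pow _ a.2)⟩

theorem Comm.symm {A B : Subgroup H} (h : Comm A B) : Comm B A :=
  fun b hb a ha => (h a ha b hb).symm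

theorem Comm.cnj {A B : Subgroup H} (h : Comm A B) (g : H) : Comm (cnj g A) (cnj g B) := by
  rintro _ ⟨a, ha, rfl⟩ _ ⟨b, hb, rfl⟩
  rw [← map_mul, ← map_mul, h a ha b hb]

theorem Elem.sup {A B : Subgroup H} (hA : Elem p A) (hB : Elem p B) (hc : Comm A B) :
    Elem p (A ⊔ B) := by
  have hAn : A ≤ normalizer (B : Set H) := by
    intro a ha
    rw [mem_normalizer_iff]
    intro b
    refine ⟨fun hb => ?_, fun hb => ?_⟩
    · rwa [hc a ha b hb, mul_inv_cancel_right]
    · have h1 := hc a⁻¹ (inv_mem ha) _ hb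
      have h2 : b = a * b * a⁻¹ := by
        calc b = a⁻¹ * (a * b * a⁻¹) * a := by group
          _ = (a * b * a⁻¹) * a⁻¹ * a := by rw [h1]
          _ = a * b * a⁻¹ := by group
      exact h2 ▸ hb
  have hmem : ∀ x ∈ A ⊔ B, ∃ a ∈ A, ∃ b ∈ B, a * b = x := by
    intro x hx
    have := coe_mul_of_left_le_normalizer_right A B hAn
    rw [← SetLike.mem_coe, this] at hx
    exact Set.mem_mul.1 hx
  refine ⟨fun x hx y hy => ?_, fun x hx => ?_⟩
  · obtain ⟨a, ha, b, hb, rfl⟩ := hmem x hx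
    obtain ⟨a', ha', b', hb', rfl⟩ := hmem y hy
    calc a * b * (a' * b') = a * (b * a') * b' := by group
      _ = (a * a') * (b * b') := by rw [← hc a' ha' b hb]; group
      _ = (a' * a) * (b' * b) := by rw [hA.comm a ha a' ha', hB.comm b hb b' hb']
      _ = a' * (a * b') * b := by group
      _ = _ := by rw [hc a ha b' hb']; group
  · obtain ⟨a, ha, b, hb, rfl⟩ := hmem x hx
    rw [(show Commute a b from hc a ha b hb).mul_pow, hA.pow a ha, hB.pow b hb, one_mul]

theorem Mem.cnj {A : Subgroup H} (hA : Mem p V A) (g : H) : Mem p V (cnj g A) := by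
  refine ⟨fun h => hA.ne_bot ((Subgroup.map_eq_bot_iff_of_injective _
    (MulAut.conj g).injective).1 h), hA.elem.cnj g, (meas_cnj g A).trans hA.meas_eq,
    fun B hB h1 h2 => ?_⟩
  have hback : SL2Recog.cnj g (SL2Recog.cnj g⁻¹ B) = B := by
    rw [cnj_cnj, mul_inv_cancel, cnj_one]
  have hle : SL2Recog.cnj g⁻¹ B ≤ A := by
    refine (cnj_mono g⁻¹ hB).trans (le_of_eq ?_)
    rw [cnj_cnj, inv_mul_cancel, cnj_one]
  have := hA.strict _ hle (fun h => h1 (by rw [← hback, h, SL2Recog.cnj, Subgroup.map_bot]))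
    (fun h => h2 (by rw [← hback, h]))
  rwa [meas_cnj] at this

variable [Finite H]

/-- An elementary abelian subgroup of measure `|V|` contains a member. -/
theorem exists_mem {A : Subgroup H} (hA : Elem p A) (h0 : A ≠ ⊥) (hm : meas V A = Nat.card V)
    (hb : Bound p H V) : ∃ B ≤ A, Mem p V B := by
  obtain ⟨B, ⟨hBA, hB0, hBm⟩, hmin⟩ := (wellFounded_lt (α := Subgroup H)).has_min
    {B | B ≤ A ∧ B ≠ ⊥ ∧ meas V B = Nat.card V} ⟨A, le_rfl, h0, hm⟩
  refine ⟨B, hBA, hB0, hA.mono hBA, hBm, fun C hC h1 h2 => ?_⟩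
  exact lt_of_le_of_ne (hb C ((hA.mono hBA).mono hC))
    fun he => hmin C ⟨hC.trans hBA, h1, he⟩ (lt_of_le_of_ne hC h2)

theorem Mem.quad [Finite V] [Fact p.Prime] [FaithfulSMul H V] (hexp : ∀ v : V, p • v = 0)
    {A : Subgroup H} (hA : Mem p V A) : Quad V A :=
  fun _ ha v => quadratic hexp hA.elem.comm hA.elem.pow hA.meas_eq.ge
    (fun B h1 h2 h3 => hA.meas_eq ▸ hA.strict B h1 h2 h3) ha v

/-! ### Unique maximal subgroups -/

variable [Fact p.Prime]

theorem exists_sylow_le {M P : Subgroup H} (hM : ∃ T : Sylow p H, (T : Subgroup H) ≤ M)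
    (hP : IsPGroup p P) (hPM : P ≤ M) :
    ∃ T : Sylow p H, P ≤ T ∧ (T : Subgroup H) ≤ M := by
  obtain ⟨T, hT⟩ := hM
  obtain ⟨Q, hQ⟩ := (hP.comap_subtype (K := M)).exists_le_sylow
  obtain ⟨m, hm⟩ := MulAction.exists_smul_eq M (T.subtype hT) Q
  have hle : ((m : H) • T : Sylow p H) ≤ M := by
    rw [coe_smul_sylow]
    rintro _ ⟨x, hx, rfl⟩
    exact M.mul_mem (M.mul_mem m.2 (hT hx)) (M.inv_mem m.2)
  refine ⟨(m : H) • T, fun x hx => ?_, hle⟩
  have h1 : (⟨x, hPM hx⟩ : M) ∈ (Q : Subgroup M) := hQ (show (x : H) ∈ P from hx)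
  rw [← hm, Sylow.smul_def] at h1
  change (⟨x, hPM hx⟩ : M) ∈ MulAut.conj m • ((T.subtype hT : Sylow p M) : Subgroup M) at h1
  rw [Subgroup.mem_pointwise_smul_iff_inv_smul_mem] at h1
  rw [coe_smul_sylow, mem_cnj]
  have h2 : (((MulAut.conj m)⁻¹ • (⟨x, hPM hx⟩ : M) : M) : H) ∈ (T : Subgroup H) := h1
  simpa [MulAut.smul_def, mul_assoc] using h2

theorem exists_conj_mem {M : Subgroup H} {T T' : Sylow p H} (hT : (T : Subgroup H) ≤ M)
    (hT' : (T' : Subgroup H) ≤ M) : ∃ m ∈ M, cnj m (T : Subgroup H) = T' := by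
  obtain ⟨m, hm⟩ := MulAction.exists_smul_eq M (T.subtype hT) (T'.subtype hT')
  refine ⟨m, m.2, ?_⟩
  have h := congrArg (fun Q : Sylow p M => (Q : Subgroup M).map M.subtype) hm
  simp only [Sylow.smul_def] at h
  have h2 : ∀ S : Sylow p H, ∀ hS : (S : Subgroup H) ≤ M,
      ((S.subtype hS : Sylow p M) : Subgroup M).map M.subtype = S := fun S hS =>
    map_subgroupOf_eq_of_le hS
  rw [h2] at h
  rw [← h]
  ext x
  constructor
  · rintro ⟨y, hy, rfl⟩
    refine ⟨m * ⟨y, hT hy⟩ * m⁻¹, ?_, rfl⟩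
    show m * ⟨y, hT hy⟩ * m⁻¹ ∈ MulAut.conj m • ((T.subtype hT : Sylow p M) : Subgroup M)
    rw [Subgroup.mem_pointwise_smul_iff_inv_smul_mem]
    simp only [MulAut.smul_def, MulAut.conj_inv_apply]
    simpa [mul_assoc] using (show (⟨y, hT hy⟩ : M) ∈ (T : Subgroup H).subgroupOf M from hy)
  · rintro ⟨y, hy, rfl⟩
    change y ∈ MulAut.conj m • ((T.subtype hT : Sylow p M) : Subgroup M) at hy
    rw [Subgroup.mem_pointwise_smul_iff_inv_smul_mem] at hy
    simp only [MulAut.smul_def, MulAut.conj_inv_apply] at hy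
    rw [mem_cnj]
    exact (show ((m⁻¹ * y * m : M) : H) ∈ (T : Subgroup H) from hy)

theorem UMax.of_sylow {M : Subgroup H} (hne : M ≠ ⊤) (T : Sylow p H) (hT : (T : Subgroup H) ≤ M)
    (hmax : ∀ L : Subgroup H, L ≠ ⊤ → (T : Subgroup H) ≤ L → L ≤ M) : UMax p M := by
  refine ⟨hne, ⟨T, hT⟩, fun T' hT' L hL hTL => ?_⟩
  obtain ⟨m, hm, he⟩ := exists_conj_mem hT hT'
  have h3 := hmax (cnj m⁻¹ L) (cnj_ne_top hL) (by
    rw [← he] at hTL
    have := cnj_mono m⁻¹ hTL
    rwa [cnj_cnj, inv_mul_cancel, cnj_one] at this)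
  intro x hx
  have h4 : m⁻¹ * x * m ∈ M := h3 (mem_cnj.2 (by simpa [mul_assoc] using hx))
  simpa [mul_assoc] using M.mul_mem (M.mul_mem hm h4) (M.inv_mem hm)

theorem UMax.cnj {M : Subgroup H} (hM : UMax p M) (g : H) : UMax p (cnj g M) := by
  obtain ⟨hne, ⟨T, hT⟩, hmax⟩ := hM
  refine UMax.of_sylow (cnj_ne_top hne) (g • T) ?_ fun L hL hTL => ?_
  · rw [coe_smul_sylow]
    exact cnj_mono g hT
  · rw [coe_smul_sylow] at hTL
    have h1 := hmax T hT (SL2Recog.cnj g⁻¹ L) (cnj_ne_top hL) (by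
      have := cnj_mono g⁻¹ hTL
      rwa [cnj_cnj, inv_mul_cancel, cnj_one] at this)
    have h2 := cnj_mono g h1
    rwa [cnj_cnj, mul_inv_cancel, cnj_one] at h2

/-- A Sylow subgroup lies in a unique maximal subgroup. -/
theorem Hyp.exists_umax (h : Hyp p H) (T : Sylow p H) :
    ∃ M : Subgroup H, UMax p M ∧ (T : Subgroup H) ≤ M := by
  obtain ⟨M, hM⟩ := h.exists_max
  obtain ⟨T0, hT0⟩ := hM.2.1
  obtain ⟨g, hg⟩ := MulAction.exists_smul_eq H T0 T
  refine ⟨SL2Recog.cnj g M, hM.cnj g, ?_⟩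
  rw [← hg, coe_smul_sylow]
  exact cnj_mono g hT0

/-- A normal subgroup inside a unique maximal subgroup contains no nontrivial `p`-subgroup. -/
theorem Hyp.eq_bot_of_le (h : Hyp p H) {M N P : Subgroup H} (hM : UMax p M) [N.Normal]
    (hNM : N ≤ M) (hPN : P ≤ N) (hP : IsPGroup p P) : P = ⊥ := by
  obtain ⟨T, hPT, hTM⟩ := exists_sylow_le hM.2.1 hP (hPN.trans hNM)
  have htop : normalizer (((T : Subgroup H) ⊓ N : Subgroup H) : Set H) = ⊤ := by
    by_contra hne
    refine hM.1 (eq_top_iff.2 ?_)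
    rw [← FusionMod.frattini_inf T N]
    exact sup_le (hM.2.2 T hTM _ hne (FusionMod.le_normalizer_inf T N)) hNM
  have hbot := h.core _ (normalizer_eq_top_iff.1 htop) (T.2.to_le inf_le_left)
  exact eq_bot_iff.2 (hbot ▸ le_inf hPT hPN)

/-- `M` is self-normalising. -/
theorem UMax.mem_of_normalizer (h : Hyp p H) {M P : Subgroup H} (hM : UMax p M) (hPM : P ≤ M)
    (hP : IsPGroup p P) (hP0 : P ≠ ⊥) {x : H} (hx : x ∈ normalizer (M : Set H)) : x ∈ M := by
  obtain ⟨T, hT⟩ := hM.2.1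
  refine hM.2.2 T hT _ (fun he => hP0 ?_) (hT.trans le_normalizer) hx
  have : M.Normal := normalizer_eq_top_iff.1 he
  exact h.eq_bot_of_le hM le_rfl hPM hP

theorem Moved.forall (hz : Moved p H V) (T : Sylow p H) :
    ∃ z : V, (∀ t ∈ (T : Subgroup H), t • z = z) ∧ ∃ g : H, g • z ≠ z := by
  obtain ⟨T0, z, hzT, g0, hg0⟩ := hz
  obtain ⟨g, hg⟩ := MulAction.exists_smul_eq H T0 T
  refine ⟨g • z, fun t ht => ?_, g * g0 * g⁻¹, fun he => hg0 ?_⟩
  · rw [← hg, coe_smul_sylow, mem_cnj] at ht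
    have := hzT _ ht
    rw [mul_smul, mul_smul, inv_smul_eq_iff] at this
    exact this
  · rw [mul_smul, mul_smul, inv_smul_smul] at he
    exact MulAction.injective g he

/-- The stabiliser of a moved vector fixed by a Sylow subgroup of `M` lies in `M`. -/
theorem UMax.stab_le {M : Subgroup H} (hM : UMax p M) {T : Sylow p H} (hT : (T : Subgroup H) ≤ M)
    {z : V} (hzT : ∀ t ∈ (T : Subgroup H), t • z = z) (hz : ∃ g : H, g • z ≠ z) {g : H}
    (hg : g • z = z) : g ∈ M :=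
  hM.2.2 T hT (MulAction.stabilizer H z)
    (fun h => hz.elim fun x hx => hx (MulAction.mem_stabilizer_iff.1 (h ▸ mem_top x)))
    (fun t ht => MulAction.mem_stabilizer_iff.2 (hzT t ht)) (MulAction.mem_stabilizer_iff.2 hg)

end Cfsg.Agent.Lib.FFMin
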