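import Cfsg.Agent.Lib.FFMin.Local

/-!
# The bound `|A| |C_V(A)| ≤ |V|` and semiregularity of members
-/

set_option autoImplicit false
set_option linter.unusedSectionVars false

namespace Cfsg.Agent.Lib.FFMin

open Subgroup SL2Recog
open scoped Pointwise

universe u

section Quotient

variable {H V : Type*} [Group H] [AddCommGroup V] [DistribMulAction H V]

theorem fix0_invariant (g : H) : ∀ v ∈ fix0 H V, v ∈ (fix0 H V).comap
    (DistribSMul.toAddMonoidHom V g) := fun v hv => by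
  show g • v ∈ fix0 H V
  rwa [hv g (mem_top g)]

instance quotFix0Action : DistribMulAction H (V ⧸ fix0 H V) where
  smul g := QuotientAddGroup.map (fix0 H V) (fix0 H V) (DistribSMul.toAddMonoidHom V g)
    (fix0_invariant g)
  one_smul := by
    rintro ⟨v⟩
    exact congrArg QuotientAddGroup.mk (one_smul H v)
  mul_smul := by
    rintro x y ⟨v⟩
    exact congrArg QuotientAddGroup.mk (mul_smul x y v)
  smul_zero g := map_zero (QuotientAddGroup.map (fix0 H V) (fix0 H V) _ (fix0_invariant g))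
  smul_add g := map_add (QuotientAddGroup.map (fix0 H V) (fix0 H V) _ (fix0_invariant g))

theorem quot_smul_mk (g : H) (v : V) :
    g • (v : V ⧸ fix0 H V) = ((g • v : V) : V ⧸ fix0 H V) := rfl

theorem quot_dev_mk (g : H) (v : V) :
    dev g (v : V ⧸ fix0 H V) = ((dev g v : V) : V ⧸ fix0 H V) := rfl

theorem quot_exp {p : ℕ} (hexp : ∀ v : V, p • v = 0) : ∀ w : V ⧸ fix0 H V, p • w = 0 := by
  rintro ⟨v⟩
  exact congrArg QuotientAddGroup.mk (hexp v)

theorem card_quot_mul : Nat.card (V ⧸ fix0 H V) * Nat.card (fix0 H V) = Nat.card V :=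
  (fix0 H V).card_eq_card_quotient_mul_card_addSubgroup.symm

theorem fx_le_comap_quot (A : Subgroup H) :
    fx V A ≤ (fx (V ⧸ fix0 H V) A).comap (QuotientAddGroup.mk' (fix0 H V)) :=
  fun _ hv a ha => congrArg QuotientAddGroup.mk (hv a ha)

end Quotient

variable {H V : Type u} [Group H] [AddCommGroup V] [DistribMulAction H V] {p : ℕ}
  [Finite H] [Finite V] [FaithfulSMul H V] [Fact p.Prime]

theorem card_comap_quot (U : AddSubgroup (V ⧸ fix0 H V)) :
    Nat.card (U.comap (QuotientAddGroup.mk' (fix0 H V))) =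
      Nat.card U * Nat.card (fix0 H V) := by
  rw [card_map_mul_add _ (QuotientAddGroup.mk' (fix0 H V)),
    AddSubgroup.map_comap_eq_self_of_surjective (QuotientAddGroup.mk'_surjective _),
    QuotientAddGroup.ker_mk', inf_eq_right.2]
  intro v hv
  show (v : V ⧸ fix0 H V) ∈ U
  rw [(QuotientAddGroup.eq_zero_iff v).2 hv]
  exact zero_mem _

theorem meas_le_quot (A : Subgroup H) :
    meas V A ≤ meas (V ⧸ fix0 H V) A * Nat.card (fix0 H V) := by
  rw [meas, meas, mul_assoc, ← card_comap_quot]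
  exact Nat.mul_le_mul_left _ (AddSubgroup.card_le_of_le (fx_le_comap_quot A))

theorem quot_faithful (hexp : ∀ v : V, p • v = 0) (h : Hyp p H) :
    FaithfulSMul H (V ⧸ fix0 H V) := by
  set N : Subgroup H := fxTo (fix0 H V) with hN
  have hnormal : N.Normal := ⟨fun n hn x v => by
    have h1 := hn (x⁻¹ • v)
    have h2 : dev (x * n * x⁻¹) v = x • dev n (x⁻¹ • v) := by rw [smul_dev, smul_inv_smul]
    rw [h2, h1 x (mem_top x)]
    exact h1⟩
  have hNp : IsPGroup p N := fun g => ⟨1, Subtype.ext (by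
    rw [pow_one, SubmonoidClass.coe_pow, coe_one]
    refine eq_of_smul_eq_smul fun v : V => ?_
    rw [nsmul_dev_eq (fun w => g.2 w (g : H) (mem_top _)), hexp, add_zero, one_smul])⟩
  have hbot := h.core N hnormal hNp
  refine ⟨fun {g g'} hgg => ?_⟩
  have h1 : g'⁻¹ * g ∈ N := fun v => by
    have h2 := hgg (v : V ⧸ fix0 H V)
    rw [← QuotientAddGroup.eq_zero_iff, ← quot_dev_mk, dev, mul_smul, h2, inv_smul_smul, sub_self]
  rw [hbot, mem_bot] at h1
  exact (inv_mul_eq_one.1 h1).symm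

theorem moved_of_fix0_eq_bot (hexp : ∀ v : V, p • v = 0) (h : Hyp p H) (h0 : fix0 H V = ⊥) :
    Moved p H V := by
  obtain ⟨M, hM⟩ := h.exists_max
  have : Nontrivial V := by
    by_contra hV
    rw [not_nontrivial_iff_subsingleton] at hV
    refine hM.1 (eq_top_iff.2 fun g _ => ?_)
    rw [show g = 1 from eq_of_smul_eq_smul fun v : V => Subsingleton.elim _ _]
    exact one_mem M
  obtain ⟨T, hT⟩ := hM.2.1
  obtain ⟨z, hz0, hz⟩ := exists_fix_ne_zero hexp T.2
  refine ⟨T, z, hz, ?_⟩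
  by_contra! hall
  exact hz0 (AddSubgroup.mem_bot.1 (h0 ▸ (show z ∈ fix0 H V from fun g _ => hall g)))

/-! ### Descent -/

theorem Below.image (hB : Below.{u} p (Nat.card H + Nat.card V)) (hexp : ∀ v : V, p • v = 0)
    {L : Subgroup H} {W : AddSubgroup V} {hW : ∀ g ∈ L, ∀ w ∈ W, g • w ∈ W}
    (hlt : L ≠ ⊤ ∨ W ≠ ⊤) (hh : Hyp p ↥(resAct L W hW).range) :
    Main p ↥(resAct L W hW).range W := by
  have : Finite ↥(resAct L W hW).range := Finite.of_surjective _ resMap_surjective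
  refine hB _ _ (fun w => Subtype.ext (hexp w)) hh ?_
  have h1 : Nat.card ↥(resAct L W hW).range ≤ Nat.card L :=
    Nat.card_le_card_of_surjective _ resMap_surjective
  have h2 : Nat.card L ≤ Nat.card H := card_le_card_group L
  have h3 : Nat.card W ≤ Nat.card V := Nat.card_le_card_of_injective _ Subtype.val_injective
  rcases hlt with h4 | h4
  · have : Nat.card L ≠ Nat.card H := fun he => h4 (eq_top_of_card_eq L he)
    omega
  · have : Nat.card W ≠ Nat.card V := fun he => h4 (AddSubgroup.eq_top_of_card_eq W he)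
    omega

theorem Main.tame {K W : Type u} [Group K] [AddCommGroup W] [DistribMulAction K W]
    (hm : Main p K W) (hexp : ∀ w : W, p • w = 0) (hz : Moved p K W) : Tame p K W :=
  ⟨hexp, hm.1, (hm.2 hz).1⟩

/-- An invariant submodule containing a moved fixed vector and the fixed points of an offender is
everything. -/
theorem eq_top_of_invariant (hB : Below.{u} p (Nat.card H + Nat.card V))
    (hexp : ∀ v : V, p • v = 0) (h : Hyp p H) {M : Subgroup H} (hM : UMax p M) {T : Sylow p H}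
    (hTM : (T : Subgroup H) ≤ M) {z : V} (hzT : ∀ t ∈ (T : Subgroup H), t • z = z)
    (hzm : ∃ g : H, g • z ≠ z) {S : AddSubgroup V} (hS : ∀ g : H, ∀ v ∈ S, g • v ∈ S)
    (hzS : z ∈ S) {F : Subgroup H} (hF : Elem p F) (hm : meas V F = Nat.card V)
    (hfx : fx V F ≤ S) : S = ⊤ := by
  by_contra hne
  set hW : ∀ g ∈ (⊤ : Subgroup H), ∀ w ∈ S, g • w ∈ S := fun g _ => hS g
  set r := resMap (⊤ : Subgroup H) S hW with hr
  have hmapsub : ∀ N : Subgroup (⊤ : Subgroup H), N.Normal →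
      (N.map (⊤ : Subgroup H).subtype).Normal := fun N hN =>
    hN.map _ fun x => ⟨⟨x, mem_top x⟩, rfl⟩
  have hker : r.ker ≤ M.subgroupOf ⊤ := fun g hg =>
    hM.stab_le hTM hzT hzm ((mem_ker_resMap g).1 hg z hzS)
  obtain ⟨hh, -⟩ := hyp_image (p := p) r resMap_surjective (T.subtype le_top)
    (fun he => hM.1 (top_le_iff.1 (subgroupOf_eq_top.1 he))) (fun x hx => hTM hx)
    (fun L' hL' hTL' => by
      have h1 := hM.2.2 T hTM (L'.map (⊤ : Subgroup H).subtype) (fun he => hL' ?_)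
        (fun t ht => ⟨⟨t, mem_top t⟩, hTL' (show (t : H) ∈ (T : Subgroup H) from ht), rfl⟩)
      · exact fun x hx => h1 (mem_map_of_mem _ hx)
      · rw [← comap_map_eq_self_of_injective (⊤ : Subgroup H).subtype_injective L', he, comap_top])
    hker fun N hN hNT => by
      have := h.core _ (hmapsub N hN) (T.2.to_le (by
        rintro _ ⟨x, hx, rfl⟩
        exact hNT hx))
      rw [(map_eq_bot_iff_of_injective _ (⊤ : Subgroup H).subtype_injective).1 this]
      exact bot_le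
  have hI := (hB.image hexp (Or.inr hne) hh).1
  set F' := F.subgroupOf ⊤ with hF'
  have hFmap : F'.map (⊤ : Subgroup H).subtype = F := map_subgroupOf_eq_of_le le_top
  have h0 : F' ⊓ r.ker = ⊥ := by
    have : (r.ker.map (⊤ : Subgroup H).subtype).Normal := hmapsub _ (MonoidHom.normal_ker r)
    have h1 : (F' ⊓ r.ker).map (⊤ : Subgroup H).subtype ≤ F := by
      rw [← hFmap]; exact map_mono inf_le_left
    refine (map_eq_bot_iff_of_injective _ (⊤ : Subgroup H).subtype_injective).1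
      (h.eq_bot_of_le hM (N := r.ker.map (⊤ : Subgroup H).subtype) ?_ (map_mono inf_le_right)
        (hF.isPGroup.to_le h1))
    rintro _ ⟨x, hx, rfl⟩
    exact hker hx
  have hle := hI _ (elem_map (hFmap.symm ▸ hF) r)
  have hsplit := card_map_mul F' r
  rw [h0, Subgroup.card_bot, mul_one] at hsplit
  rw [meas, card_fx_resMap, hFmap, inf_eq_right.2 hfx, ← hsplit,
    ← card_map_of_injective (⊤ : Subgroup H).subtype_injective, hFmap] at hle
  rw [meas] at hm
  rw [hm] at hle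
  exact hne (AddSubgroup.eq_top_of_le_card S hle)

/-! ### Classes -/

theorem cnj_ne_bot {g : H} {A : Subgroup H} (hA : A ≠ ⊥) : cnj g A ≠ ⊥ := fun h =>
  hA ((map_eq_bot_iff_of_injective _ (MulAut.conj g).injective).1 h)

theorem goodClass_conj {A R₀ : Subgroup H} (hA : A ≠ ⊥) (hle : A ≤ R₀) :
    GoodClass R₀ fun C => ∃ g, C = cnj g A :=
  ⟨by rintro _ ⟨g, rfl⟩; exact cnj_ne_bot hA,
    by rintro _ x ⟨g, rfl⟩; exact ⟨x * g, cnj_cnj x g A⟩, A, ⟨1, (cnj_one A).symm⟩, hle⟩

theorem goodClass_mem {A R₀ : Subgroup H} (hA : Mem p V A) (hle : A ≤ R₀) :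
    GoodClass R₀ fun C => Mem p V C :=
  ⟨fun _ hC => hC.ne_bot, fun _ x hC => hC.cnj x, A, hA, hle⟩

/-! ### Bound and semiregularity -/

theorem bound_of_below (hB : Below.{u} p (Nat.card H + Nat.card V)) (hexp : ∀ v : V, p • v = 0)
    (h : Hyp p H) : Bound p H V := by
  by_cases hz : Moved p H V
  swap
  · have h0 : fix0 H V ≠ ⊥ := fun h0 => hz (moved_of_fix0_eq_bot hexp h h0)
    have := quot_faithful hexp h
    have hlt : Nat.card (V ⧸ fix0 H V) < Nat.card V := by
      rw [← card_quot_mul (H := H) (V := V)]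
      exact lt_mul_right Nat.card_pos ((AddSubgroup.one_lt_card_iff_ne_bot _).2 h0)
    have hq := (hB H (V ⧸ fix0 H V) (quot_exp hexp) h (by omega)).1
    intro A hA
    exact (meas_le_quot A).trans ((Nat.mul_le_mul_right _ (hq A hA)).trans_eq card_quot_mul)
  intro A₀ hA₀
  by_contra hbad
  push Not at hbad
  obtain ⟨A₁, hA₁, hmax⟩ := Set.exists_max_image {A : Subgroup H | Elem p A}
    (fun A => meas V A) (Set.toFinite _) ⟨A₀, hA₀⟩
  obtain ⟨A, ⟨hA, hAm⟩, hmin⟩ := (wellFounded_lt (α := Subgroup H)).has_min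
    {A : Subgroup H | Elem p A ∧ meas V A = meas V A₁} ⟨A₁, hA₁, rfl⟩
  have hbig : Nat.card V < meas V A := hAm ▸ lt_of_lt_of_le hbad (hmax A₀ hA₀)
  have hA0 : A ≠ ⊥ := fun h0 => absurd hbig (by rw [h0, meas_bot]; exact lt_irrefl _)
  have hstrict : ∀ B : Subgroup H, B ≤ A → B ≠ A → meas V B < meas V A := fun B hB hne =>
    lt_of_le_of_ne (hAm ▸ hmax B (hA.mono hB))
      fun he => hmin B ⟨hA.mono hB, he.trans hAm⟩ (lt_of_le_of_ne hB hne)
  obtain ⟨T, hAT⟩ := hA.isPGroup.exists_le_sylow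
  obtain ⟨M, hM, hTM⟩ := h.exists_umax T
  rcases gen_or_overgroup h hA.isPGroup hA0 hM (hAT.trans hTM) with
    hgen | ⟨M', X, hM', hAM', hX, hAX, hXM⟩
  · exact hbig.ne' (base hexp hz hA hTM hM.1 hAT hgen hbig.le fun B hB _ hne => hstrict B hB hne).1
  · obtain ⟨L, R, T', W, hW, hL, -, -, -, -, hh, -, -, hcl⟩ := exists_reduced h hz
      (goodClass_conj hA0 le_rfl) hM' hX hXM hA.isPGroup hAX hAM'
    obtain ⟨C, -, ⟨g, hg⟩, hCK⟩ := hcl _ (goodClass_conj hA0 le_rfl)
    have hI := (hB.image hexp (Or.inl hL) hh).1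
    have h1 := meas_le_ker hI (A := C) (hg ▸ hA.cnj g)
    rw [hg, meas_cnj] at h1
    set D := (C ⊓ (resMap L W hW).ker).map L.subtype with hD
    have hDle : cnj g⁻¹ D ≤ A := cnj_le_cnj (hg ▸ map_mono inf_le_left)
    refine (hstrict _ hDle fun he => hCK ?_).not_ge ((meas_cnj (V := V) g⁻¹ D).symm ▸ h1)
    have he' := congrArg (cnj g) he
    rw [cnj_cnj, mul_inv_cancel, cnj_one, ← hg] at he'
    exact (map_injective L.subtype_injective he').ge.trans inf_le_right

theorem semi_of_below (hB : Below.{u} p (Nat.card H + Nat.card V)) (hexp : ∀ v : V, p • v = 0)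
    (h : Hyp p H) (hz : Moved p H V) (hb : Bound p H V) : Semi p H V := by
  intro A hA a ha ha1 v hv
  obtain ⟨T, hAT⟩ := hA.elem.isPGroup.exists_le_sylow
  obtain ⟨M, hM, hTM⟩ := h.exists_umax T
  rcases gen_or_overgroup h hA.elem.isPGroup hA.ne_bot hM (hAT.trans hTM) with
    hgen | ⟨M', X, hM', hAM', hX, hAX, hXM⟩
  · refine (base hexp hz hA.elem hTM hM.1 hAT hgen hA.meas_eq.ge fun B h1 h2 h3 =>
      hA.meas_eq ▸ hA.strict B h1 h2 h3).2.1 a ha ha1 v ?_
    rw [dev_eq_zero_iff.2 hv]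
    exact zero_mem _
  · obtain ⟨L, R, T', W, hW, hL, -, -, -, -, hh, -, hmov, hcl⟩ := exists_reduced h hz
      (goodClass_conj hA.ne_bot le_rfl) hM' hX hXM hA.elem.isPGroup hAX hAM'
    obtain ⟨C, -, ⟨g, hg⟩, hCK⟩ := hcl _ (goodClass_conj hA.ne_bot le_rfl)
    obtain ⟨hbI, hmI⟩ := hB.image hexp (Or.inl hL) hh
    obtain ⟨hdisj, hsum, hmem⟩ := mem_resMap hb hbI (A := C) (hg ▸ hA.cnj g) hCK
    obtain ⟨c, hc, hca⟩ : ∃ c ∈ C, (c : H) = g * a * g⁻¹ := by
      have h1 : g * a * g⁻¹ ∈ C.map L.subtype := hg ▸ mem_map_of_mem _ ha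
      obtain ⟨c, hc, he⟩ := h1
      exact ⟨c, hc, he⟩
    obtain ⟨w, hw, u, hu, hwu⟩ := AddSubgroup.mem_sup.1 (hsum ▸ AddSubgroup.mem_top (g • v))
    have hcu : (c : H) • u = u := hu _ (mem_map_of_mem _ hc)
    have hcgv : (c : H) • (g • v) = g • v := by
      rw [hca, ← mul_smul, inv_mul_cancel_right, mul_smul, hv]
    have hcw : (c : H) • w = w := by
      rw [← hwu, smul_add, hcu] at hcgv
      exact add_right_cancel hcgv
    have hc1 : resMap L W hW c ≠ 1 := fun he => ha1 (by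
      have h1 : c ∈ C ⊓ (resMap L W hW).ker := ⟨hc, he⟩
      rw [hdisj, mem_bot] at h1
      rw [h1, coe_one] at hca
      exact mul_left_cancel ((mul_inv_eq_one.1 hca.symm).trans (mul_one g).symm))
    have hwfx := (hmI hmov).1 _ hmem _ (mem_map_of_mem _ hc) hc1 ⟨w, hw⟩ (Subtype.ext hcw)
    have h2 := add_mem (mem_fx_resMap.1 hwfx) hu
    rw [hwu, hg, smul_mem_fx_cnj] at h2
    exact h2

end Cfsg.Agent.Lib.FFMin
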