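import Cfsg.Agent.Lib.FFMin.Partner

/-!
# Quadratic offenders are generated by members
-/

set_option autoImplicit false
set_option linter.unusedSectionVars false

namespace Cfsg.Agent.Lib.FFMin

open Subgroup SL2Recog
open scoped Pointwise

universe u

variable {H V : Type u} [Group H] [AddCommGroup V] [DistribMulAction H V] {p : ℕ}
  [Finite H] [Finite V] [FaithfulSMul H V] [Fact p.Prime]

variable {T : Sylow p H}

theorem exists_ne_one {A : Subgroup H} (hA : A ≠ ⊥) : ∃ a ∈ A, a ≠ 1 := by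
  by_contra! h
  exact hA ((eq_bot_iff_forall A).2 h)

theorem exists_notMem_fx {A : Subgroup H} (hA : A ≠ ⊥) : ∃ v : V, v ∉ fx V A := by
  by_contra! h
  exact hA ((eq_bot_iff_forall A).2 fun a ha => eq_one_of_dev fun v : V => dev_eq_zero ha (h v))

theorem le_normalizer_memSup {T : Subgroup H} :
    T ≤ normalizer (memSup p V T : Set H) := by
  intro t ht
  refine mem_normalizer_iff_map_conj_eq.2
    (Subgroup.eq_of_le_of_card_ge ?_ (card_cnj t _).ge)
  rw [map_le_iff_le_comap]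
  refine sSup_le fun D hD => map_le_iff_le_comap.1 (le_sSup ?_)
  exact ⟨hD.1.cnj t, cnj_le_of_mem ht hD.2⟩

/-- An element of `T` fixing the fixed points of all members and normalising each member lies in
the subgroup they generate. -/
theorem mem_memSup_of_fix (ht : Tame p H V) (hP : Partner p H V) {M : Subgroup H}
    (hM : UMax p M) (hTM : (T : Subgroup H) ≤ M) {P : Subgroup H} (hPT : P ≤ T)
    (hfix : ∀ a ∈ P, ∀ v ∈ fx V (memSup p V (T : Subgroup H)), a • v = v) :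
    P ≤ memSup p V (T : Subgroup H) := by
  have hquad := ht.memSup_quad (T := (T : Subgroup H)) T.2
  have hnorm : ∀ F ∈ members p V (T : Subgroup H), P ≤ normalizer (F : Set H) := by
    intro F hF a ha
    refine mem_normalizer_iff_map_conj_eq.2 ?_
    by_contra hne
    obtain ⟨g, hg⟩ := hP T M hM hTM F hF.1 hF.2
    obtain ⟨f, hf, hf1⟩ := exists_ne_one hF.1.ne_bot
    obtain ⟨v, hv⟩ := exists_notMem_fx (V := V) hF.1.ne_bot
    refine hv (hg.opp f hf hf1 v ?_)
    have h1 := hg.orth (cnj a F) (hF.1.cnj a) (cnj_le_of_mem (hPT ha) hF.2) hne (a * f * a⁻¹)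
      (mem_map_of_mem _ hf) (a • v)
    rwa [← smul_dev, hfix a ha _ (hquad f (le_sSup hF hf) v)] at h1
  intro a ha
  refine mem_of_axis ht.exp ht.bound (ht.memSup T.2).1 (ht.memSup T.2).2 hquad (hfix a ha)
    fun v => mem_fx_sSup fun F hF => ?_
  obtain ⟨f, hf, hf1, hfc⟩ := exists_commuting (T.2.to_le hPT) hF.1.elem.isPGroup hF.1.ne_bot
    (hnorm F hF)
  rw [ht.fx_eq hF.1 hf hf1, dev_comm (hfc a ha).symm, dev_eq_zero_iff]
  exact hfix a ha _ (hquad f (le_sSup hF hf) v)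

theorem gen_conj {A : Subgroup H} (g : H)
    (hle : cnj g A ≤ sSup {D | Mem p V D ∧ D ≤ cnj g A}) :
    A ≤ sSup {D | Mem p V D ∧ D ≤ A} := by
  refine (map_le_map_iff_of_injective (MulAut.conj g).injective).1 (hle.trans (sSup_le ?_))
  rintro D ⟨hD, hDA⟩
  have h := cnj_mono g (le_sSup (a := cnj g⁻¹ D) (s := {D | Mem p V D ∧ D ≤ A})
    ⟨hD.cnj _, cnj_le_cnj hDA⟩)
  rwa [cnj_cnj, mul_inv_cancel, cnj_one] at h

/-- The case in which all proper overgroups of `A` and the members lie in `M`. -/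
theorem gen_of_max (hB : Below.{u} p (Nat.card H + Nat.card V)) (h : Hyp p H) (hz : Moved p H V)
    (ht : Tame p H V) (hP : Partner p H V) {M : Subgroup H} (hM : UMax p M)
    (hTM : (T : Subgroup H) ≤ M) {A B₁ : Subgroup H} (hA : Elem p A) (hAT : A ≤ T)
    (hm : meas V A = Nat.card V) (hq : Quad V A) (hB₁ : Mem p V B₁) (hB₁A : B₁ ≤ A)
    (hmax : ∀ X : Subgroup H, X ≠ ⊤ → A ⊔ memSup p V (T : Subgroup H) ≤ X → X ≤ M) :
    A ≤ sSup {D | Mem p V D ∧ D ≤ A} := by
  set E := memSup p V (T : Subgroup H) with hE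
  by_cases hEA : E ≤ A
  · rw [sup_eq_left.2 hEA] at hmax
    exact le_sSup ⟨mem_of_max hB ht.exp h hz hM hTM ⟨hB₁, hB₁A.trans hAT⟩ hAT hA hm hq
      (fun D hD => (le_sSup hD).trans hEA) hmax, le_rfl⟩
  exfalso
  obtain ⟨D, hD, hDA⟩ : ∃ D ∈ members p V (T : Subgroup H), ¬ D ≤ A := by
    by_contra! hall
    exact hEA (sSup_le hall)
  have hDB : D ≠ B₁ := fun he => hDA (he ▸ hB₁A)
  obtain ⟨g₁, hg₁⟩ := hP T M hM hTM B₁ hB₁ (hB₁A.trans hAT)
  obtain ⟨g, hg⟩ := hP T M hM hTM D hD.1 hD.2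
  obtain ⟨b, hb, hb1⟩ := exists_ne_one hB₁.ne_bot
  have hquad := ht.memSup_quad (T := (T : Subgroup H)) T.2
  have h0 : ∀ {c : V}, c ∈ fix0 H V → ∀ {K : Subgroup H}, c ∈ fx V K :=
    fun hc => fx_anti le_top hc
  -- the common fixed points of `A` and the members
  have hFX : fx V (A ⊔ E) ≤ (devHom V b).range ⊔ fix0 H V := by
    obtain ⟨A₁, hA₁, hcard⟩ := exists_separated h hM (A := B₁) ⟨hB₁, hB₁A.trans hAT⟩ hmax
    obtain ⟨t, -, rfl⟩ := hP.orbit ht h hB₁ (hB₁A.trans hAT) hA₁.1 hA₁.2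
    rw [card_cnj] at hcard
    have hle : (devHom V b).range ⊔ fix0 H V ≤ fx V (A ⊔ E) := by
      refine sup_le ?_ (fx_anti le_top)
      rintro _ ⟨v, rfl⟩
      rw [fx_sup]
      exact ⟨hq b (hB₁A hb) v,
        hquad b (le_sSup (show B₁ ∈ members p V _ from ⟨hB₁, hB₁A.trans hAT⟩) hb) v⟩
    have hinf : (devHom V b).range ⊓ fix0 H V = ⊥ := by
      refine (AddSubgroup.eq_bot_iff_forall _).2 ?_
      rintro _ ⟨⟨v, rfl⟩, hv⟩
      exact dev_eq_zero hb (hg₁.opp b hb hb1 v (h0 hv))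
    refine (AddSubgroup.eq_of_le_of_card_ge hle ?_).ge
    have h1 := card_sup_mul_inf (devHom V b).range (fix0 H V)
    rw [hinf, AddSubgroup.card_bot, mul_one, ht.card_range hB₁ hb hb1] at h1
    rw [h1]
    exact hcard
  have hdevA : ∀ a ∈ A, ∀ y ∈ fx V E, dev a y ∈ fx V (A ⊔ E) := fun a ha y hy => by
    rw [fx_sup]
    exact AddSubgroup.mem_inf.2 ⟨hq a ha y, sub_mem (smul_mem_fx (le_normalizer_memSup (hAT ha)) hy) hy⟩
  have hdec : ∀ y ∈ fx V (A ⊔ E), ∃ v, ∃ c ∈ fix0 H V, dev b v + c = y := fun y hy => by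
    obtain ⟨_, ⟨v, rfl⟩, c, hc, he⟩ := AddSubgroup.mem_sup.1 (hFX hy)
    exact ⟨v, c, hc, he⟩
  -- `A` normalises `D`
  have hN : A ≤ normalizer (D : Set H) := by
    intro a ha
    refine mem_normalizer_iff_map_conj_eq.2 ?_
    by_contra hne
    obtain ⟨d, hd, hd1⟩ := exists_ne_one hD.1.ne_bot
    obtain ⟨v, hv⟩ := exists_notMem_fx (V := V) hD.1.ne_bot
    obtain ⟨w, c, hc, he⟩ := hdec _ (hdevA a ha _ (hquad d (le_sSup hD hd) v))
    refine hv (hg.opp d hd hd1 v ?_)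
    have h1 : dev a (dev d v) ∈ fx V (cnj g D) :=
      he ▸ add_mem (hg.orth B₁ hB₁ (hB₁A.trans hAT) hDB.symm b hb w) (h0 hc)
    have h2 : a • dev d v ∈ fx V (cnj g D) := by
      rw [smul_dev]
      exact hg.orth (cnj a D) (hD.1.cnj a) (cnj_le_of_mem (hAT ha) hD.2) hne _
        (mem_map_of_mem _ hd) _
    simpa [dev] using sub_mem h2 h1
  obtain ⟨d, hd, hd1, hdc⟩ := exists_commuting hA.isPGroup hD.1.elem.isPGroup hD.1.ne_bot hN
  obtain ⟨v, hv⟩ := exists_notMem_fx (V := V) hD.1.ne_bot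
  have hx : dev d v ∈ fx V (A ⊔ E) := by
    rw [fx_sup]
    refine ⟨fun a ha => dev_eq_zero_iff.1 ?_, hquad d (le_sSup hD hd) v⟩
    obtain ⟨w, c, hc, he⟩ := hdec _ (hdevA a ha _ (hquad d (le_sSup hD hd) v))
    rw [dev_comm (hdc a ha)] at he ⊢
    have h1 : dev b w ∈ fx V (cnj g₁ B₁) := by
      have := sub_mem (hg₁.orth D hD.1 hD.2 hDB d hd (dev a v)) (h0 (K := cnj g₁ B₁) hc)
      rwa [← he, add_sub_cancel_right] at this
    rw [dev_eq_zero hb (hg₁.opp b hb hb1 w h1), zero_add] at he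
    exact dev_eq_zero hd (hg.opp d hd hd1 _ (he ▸ h0 hc))
  obtain ⟨w, c, hc, he⟩ := hdec _ hx
  have h1 : dev b w ∈ fx V (cnj g₁ B₁) := by
    have := sub_mem (hg₁.orth D hD.1 hD.2 hDB d hd v) (h0 (K := cnj g₁ B₁) hc)
    rwa [← he, add_sub_cancel_right] at this
  rw [dev_eq_zero hb (hg₁.opp b hb hb1 w h1), zero_add] at he
  exact hv (hg.opp d hd hd1 v (he ▸ h0 hc))

theorem gen_of_below (hB : Below.{u} p (Nat.card H + Nat.card V)) (h : Hyp p H) (hz : Moved p H V)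
    (ht : Tame p H V) (hP : Partner p H V) : Gen p H V := by
  suffices hn : ∀ n, ∀ A : Subgroup H, Nat.card A = n → Elem p A → meas V A = Nat.card V →
      Quad V A → A ≤ sSup {D | Mem p V D ∧ D ≤ A} from fun A => hn _ A rfl
  intro n
  induction n using Nat.strong_induction_on with
  | _ n ih =>
  intro A hn hA hm hq
  rcases eq_or_ne A ⊥ with rfl | hA0
  · exact bot_le
  obtain ⟨B₁, hB₁A, hB₁⟩ := exists_mem hA hA0 hm ht.bound
  obtain ⟨T, hAT⟩ := hA.isPGroup.exists_le_sylow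
  obtain ⟨M, hM, hTM⟩ := h.exists_umax T
  by_cases hmax : ∀ X : Subgroup H, X ≠ ⊤ → A ⊔ memSup p V (T : Subgroup H) ≤ X → X ≤ M
  · exact gen_of_max hB h hz ht hP hM hTM hA hAT hm hq hB₁ hB₁A hmax
  push Not at hmax
  obtain ⟨X, hX, hAX, hXM⟩ := hmax
  have hR₀ : A ⊔ memSup p V (T : Subgroup H) ≤ T := sup_le hAT (sSup_le fun D hD => hD.2)
  obtain ⟨L, R, T', W, hW, hL, hER, hRT', hT'M, -, hh, hum, hmov, hcl⟩ := exists_reduced h hz
    (goodClass_conj hA0 (le_sup_left (b := memSup p V (T : Subgroup H)))) hM hX hXM (T.2.to_le hR₀)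
    hAX (hR₀.trans hTM)
  have hiff : ∀ {D : Subgroup H}, Mem p V D → (D ≤ T' ↔ D ≤ T) :=
    fun hD => members_eq hTM hT'M ((le_sup_right.trans hER).trans hRT') hD
  have hc : Ctx p T' M L R W hW := ⟨hB.image ht.exp (Or.inl hL) hh, hmov, hh, hum, hT'M, hRT',
    fun D hD hDT => ((le_sSup (show D ∈ members p V _ from ⟨hD, (hiff hD).1 hDT⟩)).trans
      le_sup_right).trans hER⟩
  set r := resMap L W hW with hr
  obtain ⟨C₀, hC₀R, hC₀, hC₀K⟩ := hcl _ (goodClass_mem hB₁ (hB₁A.trans le_sup_left))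
  obtain ⟨C, hCR, ⟨g, hg⟩, hCK⟩ :=
    hcl _ (goodClass_conj hA0 (le_sup_left (b := memSup p V (T : Subgroup H))))
  have hA' : Elem p (C.map L.subtype) := hg ▸ hA.cnj g
  have hm' : meas V (C.map L.subtype) = Nat.card V := by rw [hg, meas_cnj, hm]
  have hq' : Quad V (C.map L.subtype) := hg ▸ hq.cnj g
  obtain ⟨hmD, hfxD, hmI⟩ := offender_ker ht.bound hc.main.1 hA' hm'
  -- the part in the kernel
  set D := (C ⊓ r.ker).map L.subtype with hD
  have hDA : D ≤ C.map L.subtype := map_mono inf_le_left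
  have hDcard : Nat.card D < n := by
    rw [← hn, ← card_cnj g A, ← hg]
    refine lt_of_le_of_ne (card_le_of_le hDA) fun he => hCK ?_
    exact (map_injective L.subtype_injective (eq_of_le_of_card_ge hDA he.ge)).ge.trans inf_le_right
  have hDE : D ≤ memSup p V (T' : Subgroup H) :=
    (ih _ hDcard D rfl (hA'.mono hDA) hmD (hq'.mono hDA)).trans
      (sSup_le fun F hF => le_sSup ⟨hF.1, hF.2.trans (hDA.trans (hc.le_T hCR))⟩)
  have hfxE : fx V (memSup p V (T' : Subgroup H)) ≤ W ⊔ fx V (C.map L.subtype) :=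
    (fx_anti hDE).trans hfxD.le
  -- the members outside the kernel
  set 𝒢 : Set (Subgroup L) := {G | G ≤ R ∧ Mem p V (G.map L.subtype) ∧ ¬ G ≤ r.ker} with h𝒢
  have : Finite ↥(resAct L W hW).range := Finite.of_surjective _ resMap_surjective
  have hCbar : C.map r ≤ (sSup 𝒢).map r := by
    refine ((hc.main.2 hc.moved).2.2 _ (elem_map hA' r) hmI (quad_map hq')).trans (sSup_le ?_)
    rintro F ⟨hF, hFC⟩
    obtain ⟨t, ⟨t', ht', rfl⟩, rfl⟩ := (hc.main.2 hc.moved).2.1.orbit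
      (T := R.mapSurjective resMap_surjective) (hc.tame ht.exp) hc.hyp
      (mem_resMap ht.bound hc.main.1 hC₀ hC₀K).2.2 (map_mono hC₀R) hF (hFC.trans (map_mono hCR))
    rw [← map_cnj]
    refine map_mono (le_sSup ⟨cnj_le_of_mem ht' hC₀R, ?_, fun hle => hC₀K fun x hx => ?_⟩)
    · rw [map_cnj]
      exact hC₀.cnj _
    · have h1 := (MonoidHom.normal_ker r).conj_mem _ (hle (mem_map_of_mem _ hx)) t'⁻¹
      simpa [mul_assoc] using h1
  have hpart : ∀ G ∈ 𝒢, ∃ m ∈ normalizer (((R : Subgroup L) ⊓ r.ker : Subgroup L) : Set L),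
      IsPartner p W ((R : Subgroup L).map r) ((M.subgroupOf L).map r) (G.map r) (r m) := by
    intro G hG
    obtain ⟨x, hx⟩ := hc.exists_partner_image ht hG.2.1 hG.1 hG.2.2
    obtain ⟨l, rfl⟩ := resMap_surjective x
    have h1 : l ∈ normalizer (((R : Subgroup L) ⊓ r.ker : Subgroup L) : Set L) ⊔ r.ker :=
      (FusionMod.frattini_inf R r.ker).symm ▸ mem_top l
    rw [← SetLike.mem_coe, Subgroup.mul_normal] at h1
    obtain ⟨m, hm, k, hk, rfl⟩ := Set.mem_mul.1 h1
    refine ⟨m, hm, ?_⟩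
    rwa [map_mul, MonoidHom.mem_ker.1 hk, mul_one] at hx
  choose! nn hnn hnp using hpart
  have hkG : ∀ G ∈ 𝒢, ∀ k ∈ (R : Subgroup L) ⊓ r.ker, ∀ x ∈ G, k * x = x * k := by
    intro G hG k hk x hx
    have hK : ∀ {y}, y ∈ r.ker → r y = 1 := fun hy => hy
    have heq : cnj k G = G := by
      refine hc.eq_of_image ht hG.2.1 hG.1 hG.2.2 ?_ (cnj_le_of_mem hk.1 hG.1) (fun hle => ?_) ?_
        (hnp G hG).opp
      · rw [map_cnj]
        exact hG.2.1.cnj _
      · refine hG.2.2 fun y hy => ?_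
        have h1 := (MonoidHom.normal_ker r).conj_mem _ (hle (mem_map_of_mem _ hy)) k⁻¹
        simpa [mul_assoc] using h1
      · rw [map_cnj, hK hk.2, cnj_one]
    have h1 : k * x * k⁻¹ * x⁻¹ ∈ G ⊓ r.ker := by
      refine Subgroup.mem_inf.2 ⟨mul_mem (heq ▸ mem_map_of_mem _ hx) (inv_mem hx), ?_⟩
      rw [MonoidHom.mem_ker]
      simp [hK hk.2]
    rw [(mem_resMap ht.bound hc.main.1 hG.2.1 hG.2.2).1, mem_bot] at h1
    exact mul_inv_eq_iff_eq_mul.1 (mul_inv_eq_one.1 h1)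
  set S : Set (Subgroup H) := (fun G : Subgroup L => G.map L.subtype) '' 𝒢 with hS
  have hSmem : S ⊆ members p V (T' : Subgroup H) := by
    rintro _ ⟨G, hG, rfl⟩
    exact ⟨hG.2.1, hc.le_T hG.1⟩
  have hfix : ∀ a ∈ C.map L.subtype, ∀ v ∈ fx V (memSup p V (T' : Subgroup H)), a • v = v := by
    rintro _ ⟨c, hcC, rfl⟩ v hv
    obtain ⟨e, he, hec⟩ := hCbar (mem_map_of_mem r hcC)
    set k := e⁻¹ * c with hk
    have hkRK : k ∈ (R : Subgroup L) ⊓ r.ker :=
      Subgroup.mem_inf.2 ⟨mul_mem (inv_mem ((sSup_le fun G hG => hG.1 : sSup 𝒢 ≤ R) he)) (hCR hcC),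
        MonoidHom.mem_ker.2 (by rw [hk, map_mul, map_inv, hec, inv_mul_cancel])⟩
    have hek : (c : H) = (e : H) * k := by simp [hk]
    have heS : (e : H) ∈ sSup S :=
      (sSup_le fun G hG x hx => show (x : H) ∈ sSup S from
        (le_sSup (show G.map L.subtype ∈ S from ⟨G, hG, rfl⟩)) (mem_map_of_mem _ hx) :
        sSup 𝒢 ≤ (sSup S).comap L.subtype) he
    have heE : (e : H) ∈ memSup p V (T' : Subgroup H) := sSup_le_sSup hSmem heS
    obtain ⟨w, hw, y, hy, rfl⟩ := AddSubgroup.mem_sup.1 (hfxE hv)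
    have hkey : ((e : H)⁻¹) • y = y := by
      have hex : ∀ F ∈ S, ∃ G ∈ 𝒢, G.map L.subtype = F := fun F hF => hF
      choose! G hG hGF using hex
      refine smul_eq_of_partners ht hSmem (fun F => ((nn (G F) : L) : H)) (M := M) (fun F hF => ?_)
        (inv_mem heS) fun F hF => ?_
      · have h1 := hc.partner_lift ht (hG F hF).2.1 (hG F hF).1 (hG F hF).2.2 (hnp _ (hG F hF))
        rwa [hGF F hF] at h1
      have hy' : (c : H) • y = y := hy _ (mem_map_of_mem _ hcC)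
      have hek' : (e : H)⁻¹ • y = (k : H) • y := by
        rw [inv_smul_eq_iff, ← mul_smul, ← hek, hy']
      rw [dev, hek']
      have hFG := hG F hF
      intro b hb
      have hb' : b ∈ (cnj (nn (G F)) (G F)).map L.subtype := by
        rw [map_cnj, hGF F hF]; exact hb
      obtain ⟨x, hx, rfl⟩ := hb'
      obtain ⟨x, hxG, rfl⟩ := hx
      set m := nn (G F)
      have hcom : k * (m * x * m⁻¹) = m * x * m⁻¹ * k := by
        have h1 : m⁻¹ * k * m ∈ (R : Subgroup L) ⊓ r.ker := by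
          have h2 := (mem_normalizer_iff.1 (inv_mem (hnn _ hFG)) k).1 hkRK
          simpa using h2
        calc k * (m * x * m⁻¹) = m * ((m⁻¹ * k * m) * x) * m⁻¹ := by group
          _ = m * (x * (m⁻¹ * k * m)) * m⁻¹ := by rw [hkG _ hFG _ h1 x hxG]
          _ = _ := by group
      have hbW : dev ((m * x * m⁻¹ : L) : H) y ∈ W := by
        have hB : Mem p V ((cnj m (G F)).map L.subtype) := by
          rw [map_cnj]; exact hFG.2.1.cnj _
        obtain ⟨-, hsum, -⟩ := mem_resMap ht.bound hc.main.1 hB fun hle => hFG.2.2 fun z hz => by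
          have h1 := (MonoidHom.normal_ker r).conj_mem _ (hle (mem_map_of_mem _ hz)) m⁻¹
          simpa [mul_assoc] using h1
        obtain ⟨w', hw', u, hu, hwu⟩ := AddSubgroup.mem_sup.1 (hsum ▸ AddSubgroup.mem_top y)
        have hb' : ((m * x * m⁻¹ : L) : H) ∈ (cnj m (G F)).map L.subtype :=
          mem_map_of_mem _ (mem_map_of_mem _ hxG)
        rw [← hwu, dev_add, dev_eq_zero hb' hu, add_zero]
        exact sub_mem (hW _ (m * x * m⁻¹).2 w' hw') hw'
      show ((m * x * m⁻¹ : L) : H) • ((k : H) • y - y) = (k : H) • y - y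
      have hkW := (mem_ker_resMap k).1 hkRK.2 _ hbW
      have hcomH := congrArg L.subtype hcom
      simp only [Subgroup.subtype_apply, coe_mul] at hcomH
      rw [smul_sub, ← mul_smul, coe_mul, coe_mul, ← hcomH, mul_smul, smul_eq _ y, smul_add]
      rw [show ((m : H) * (x : H) * ((m⁻¹ : L) : H)) = ((m * x * m⁻¹ : L) : H) from rfl, hkW]
      abel
    have hev : (e : H) • y = y := by
      conv_lhs => rw [← hkey]
      exact smul_inv_smul _ _
    have hky : (k : H) • y = y := by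
      have hy' : (c : H) • y = y := hy _ (mem_map_of_mem _ hcC)
      rw [hek, mul_smul] at hy'
      have := congrArg ((e : H)⁻¹ • ·) hy'
      simpa [hkey] using this
    show (c : H) • (w + y) = w + y
    rw [hek, mul_smul, smul_add (k : H), (mem_ker_resMap k).1 hkRK.2 w hw, hky]
    exact hv _ heE
  have hfin := mem_memSup_of_fix ht hP hM hT'M (hc.le_T hCR) hfix
  exact gen_conj g (hg ▸ gen_of_le ht hP h hm' hfin)

end Cfsg.Agent.Lib.FFMin
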