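import Cfsg.Agent.Lib.FFMin.Gen

/-!
# The induction and the moved fixed vector

For a faithful module of a group with trivial `p`-core and a unique maximal subgroup above a Sylow
subgroup, elementary abelian subgroups satisfy `|A| |C_V(A)| ≤ |V|`; if one of them is nontrivial
with equality then a vector fixed by a Sylow subgroup is moved.
-/

set_option autoImplicit false
set_option linter.unusedSectionVars false

namespace Cfsg.Agent.Lib.FFMin

open Subgroup SL2Recog
open scoped Pointwise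

universe u

section

variable {H V : Type u} [Group H] [AddCommGroup V] [DistribMulAction H V] {p : ℕ}
  [Finite H] [Finite V] [FaithfulSMul H V] [Fact p.Prime]

theorem main_of_below (hB : Below.{u} p (Nat.card H + Nat.card V)) (hexp : ∀ v : V, p • v = 0)
    (h : Hyp p H) : Main p H V :=
  ⟨bound_of_below hB hexp h, fun hz =>
    have hb := bound_of_below hB hexp h
    have hs := semi_of_below hB hexp h hz hb
    have hP := partner_of_below hB h hz ⟨hexp, hb, hs⟩
    ⟨hs, hP, gen_of_below hB h hz ⟨hexp, hb, hs⟩ hP⟩⟩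

theorem below (p : ℕ) [Fact p.Prime] (n : ℕ) : Below.{u} p n := by
  induction n using Nat.strong_induction_on with
  | _ n ih =>
    intro K W _ _ _ _ _ _ hexp h hlt
    exact main_of_below (ih _ hlt) hexp h

theorem main (hexp : ∀ v : V, p • v = 0) (h : Hyp p H) : Main p H V :=
  main_of_below (below p _) hexp h

theorem meas_quot_ge {A : Subgroup H} (hm : Nat.card V ≤ meas V A) :
    Nat.card (V ⧸ fix0 H V) ≤ meas (V ⧸ fix0 H V) A := by
  refine Nat.le_of_mul_le_mul_right ?_ (Nat.card_pos (α := fix0 H V))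
  rw [card_quot_mul]
  exact hm.trans (meas_le_quot A)

theorem comap_fx_quot_eq {A : Subgroup H} (hm : meas V A = Nat.card V)
    (hmq : meas (V ⧸ fix0 H V) A = Nat.card (V ⧸ fix0 H V)) :
    fx V A = (fx (V ⧸ fix0 H V) A).comap (QuotientAddGroup.mk' (fix0 H V)) := by
  refine AddSubgroup.eq_of_le_of_card_ge (fx_le_comap_quot A) ?_
  rw [card_comap_quot]
  refine Nat.le_of_mul_le_mul_left (le_of_eq ?_) (Nat.card_pos (α := A))
  rw [← mul_assoc]
  show meas (V ⧸ fix0 H V) A * _ = meas V A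
  rw [hmq, hm, card_quot_mul]

/-- From the quotient by the fixed points to the module. -/
theorem moved_of_quot (hexp : ∀ v : V, p • v = 0) (h : Hyp p H)
    [FaithfulSMul H (V ⧸ fix0 H V)] (hzW : Moved p H (V ⧸ fix0 H V)) {A : Subgroup H}
    (hA : Elem p A) (hA0 : A ≠ ⊥) (hm : Nat.card V ≤ meas V A) : Moved p H V := by
  obtain ⟨hbW, hW2⟩ := main (quot_exp hexp) h (V := V ⧸ fix0 H V)
  obtain ⟨hsW, hPW, hGW⟩ := hW2 hzW
  have htW : Tame p H (V ⧸ fix0 H V) := ⟨quot_exp hexp, hbW, hsW⟩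
  have hbV := (main hexp h (V := V)).1
  obtain ⟨A₁, -, hA₁⟩ := exists_mem hA hA0 ((hbV A hA).antisymm hm) hbV
  have hquot : ∀ B : Subgroup H, Elem p B → meas V B = Nat.card V →
      meas (V ⧸ fix0 H V) B = Nat.card (V ⧸ fix0 H V) :=
    fun B hB hBm => (hbW B hB).antisymm (meas_quot_ge hBm.ge)
  have hqW : Quad (V ⧸ fix0 H V) A₁ := by
    rintro a ha ⟨v⟩
    exact fx_le_comap_quot A₁ (hA₁.quad hexp a ha v)
  obtain ⟨T, hAT⟩ := hA₁.elem.isPGroup.exists_le_sylow
  obtain ⟨M, hM, hTM⟩ := h.exists_umax T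
  set E := memSup p (V ⧸ fix0 H V) (T : Subgroup H) with hE
  have hA₁E : A₁ ≤ E :=
    (hGW A₁ hA₁.elem (hquot _ hA₁.elem hA₁.meas_eq) hqW).trans
      (sSup_le fun D hD => le_sSup ⟨hD.1, hD.2.trans hAT⟩)
  have hTn : (T : Subgroup H) ≤ normalizer (E : Set H) := le_normalizer_memSup
  have hEel := (htW.memSup (T := (T : Subgroup H)) T.2).1
  set S : Set (Subgroup H) := {D | ∃ t ∈ (T : Subgroup H), D = cnj t A₁} with hS
  have hSE : ∀ D ∈ S, D ≤ E := by
    rintro _ ⟨t, ht, rfl⟩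
    exact (cnj_mono t hA₁E).trans (mem_normalizer_iff_map_conj_eq.1 (hTn ht)).le
  obtain ⟨hFel, hFm⟩ := meas_sSup_eq hbV
    (S := S) (fun D hD => by
      obtain ⟨t, -, rfl⟩ := hD
      exact ⟨hA₁.elem.cnj t, (meas_cnj t A₁).trans hA₁.meas_eq⟩)
    fun D hD D' hD' x hx y hy => hEel.comm x (hSE D hD hx) y (hSE D' hD' hy)
  have hFinv : ∀ t ∈ (T : Subgroup H), cnj t (sSup S) ≤ sSup S := fun t ht => by
    rw [map_le_iff_le_comap]
    refine sSup_le ?_
    rintro _ ⟨s, hs, rfl⟩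
    exact map_le_iff_le_comap.1 (le_sSup ⟨t * s, mul_mem ht hs, cnj_cnj t s A₁⟩)
  have hFgen := gen_of_le htW hPW h (hquot _ hFel hFm) (sSup_le hSE)
  obtain ⟨D, hD, hDF⟩ : ∃ D, Mem p (V ⧸ fix0 H V) D ∧ D ≤ sSup S := by
    by_contra! hno
    refine hA₁.ne_bot (eq_bot_iff.2 ?_)
    refine le_trans (le_trans ?_ hFgen) (sSup_le fun D hD => absurd hD.2 (hno D hD.1))
    exact le_sSup ⟨1, one_mem _, (cnj_one A₁).symm⟩
  have hFE : sSup S = E := by
    refine le_antisymm (sSup_le hSE) (sSup_le fun F hF => ?_)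
    obtain ⟨t, ht, rfl⟩ := hPW.orbit htW h hD (hDF.trans ((sSup_le hSE).trans
      (sSup_le fun F hF => hF.2))) hF.1 hF.2
    exact (cnj_mono t hDF).trans (hFinv t ht)
  have hEm : meas V E = Nat.card V := hFE ▸ hFm
  have hE0 : E ≠ ⊥ := fun he => hA₁.ne_bot (le_bot_iff.1 (he ▸ hA₁E))
  have hcomap := comap_fx_quot_eq hEm (htW.memSup (T := (T : Subgroup H)) T.2).2
  obtain ⟨a, haE, ha1, hac⟩ := exists_commuting T.2 hEel.isPGroup hE0 hTn
  obtain ⟨v, hv, hvT⟩ := exists_fix_mod hexp T.2 (U := fx V E) (fun he => by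
      obtain ⟨u, hu⟩ := exists_notMem_fx (V := V) hE0
      exact hu (he ▸ AddSubgroup.mem_top u))
    fun x hx u hu => smul_mem_fx (hTn hx) hu
  refine ⟨T, dev a v, fun t ht => ?_, ?_⟩
  · rw [smul_dev, hac t ht, mul_inv_cancel_right, smul_eq t v, dev_add,
      dev_eq_zero haE (hvT t ht), add_zero]
  by_contra! hall
  set v' : V ⧸ fix0 H V := (v : V ⧸ fix0 H V) with hv'
  have hav : dev a v' = 0 := by
    rw [hv', quot_dev_mk, QuotientAddGroup.eq_zero_iff]
    exact fun g _ => hall g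
  choose! g hg using fun F (hF : F ∈ members p (V ⧸ fix0 H V) (T : Subgroup H)) =>
    hPW T M hM hTM F hF.1 hF.2
  by_cases hex : ∃ F ∈ members p (V ⧸ fix0 H V) (T : Subgroup H), v' ∈ fx (V ⧸ fix0 H V) F
  · obtain ⟨F, hF, hvF⟩ := hex
    refine hv (hcomap ▸ (mem_fx_sSup (V := V ⧸ fix0 H V) fun F' hF' => ?_ :
      v' ∈ fx (V ⧸ fix0 H V) E))
    obtain ⟨t, ht, rfl⟩ := hPW.orbit htW h hF.1 hF.2 hF'.1 hF'.2
    rw [← smul_inv_smul t v', smul_mem_fx_cnj, smul_eq t⁻¹ v']
    refine add_mem hvF (fx_anti (le_sSup hF : F ≤ E) ?_)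
    exact fx_le_comap_quot E (hvT t⁻¹ (inv_mem ht))
  · push Not at hex
    refine ha1 (eq_one_of_dev (V := V ⧸ fix0 H V) fun w => dev_eq_zero_iff.2
      (smul_eq_of_partners htW le_rfl g hg haE fun F hF => ?_))
    obtain ⟨x, hx, f, hf, hxf⟩ := exists_split htW le_rfl hF haE
    have hfv := (hg F hF).smul_component htW hF.1 le_rfl hx hf (c := v')
      (by rw [hxf, hav]; exact zero_mem _)
    have hf1 : f = 1 := by
      by_contra hf1
      exact hex F hF (hsW F hF.1 f hf hf1 v' hfv)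
    rw [hf1, mul_one] at hxf
    exact mem_fxTo.1 ((hg F hF).sSup_le_fxTo le_rfl (hxf ▸ hx)) w

end

/-- A group with trivial `p`-core, a unique maximal subgroup above a Sylow subgroup and an offender
moves a vector fixed by a Sylow subgroup. -/
theorem moved_of_offender {H V : Type u} [Group H] [AddCommGroup V] [DistribMulAction H V] {p : ℕ}
    [Finite H] [Finite V] [FaithfulSMul H V] [Fact p.Prime] (hexp : ∀ v : V, p • v = 0)
    (h : Hyp p H) {A : Subgroup H} (hA : Elem p A) (hA0 : A ≠ ⊥) (hm : Nat.card V ≤ meas V A) :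
    Moved p H V := by
  suffices hn : ∀ n, ∀ (V : Type u) [AddCommGroup V] [DistribMulAction H V] [Finite V]
      [FaithfulSMul H V], Nat.card V = n → (∀ v : V, p • v = 0) → Nat.card V ≤ meas V A →
      Moved p H V from hn _ V rfl hexp hm
  intro n
  induction n using Nat.strong_induction_on with
  | _ n ih =>
  intro U _ _ _ _ hn hexpU hmU
  by_cases h0 : fix0 H U = ⊥
  · exact moved_of_fix0_eq_bot hexpU h h0
  have := quot_faithful hexpU h
  have hlt : Nat.card (U ⧸ fix0 H U) < n := by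
    rw [← hn, ← card_quot_mul (H := H) (V := U)]
    exact lt_mul_right Nat.card_pos ((AddSubgroup.one_lt_card_iff_ne_bot _).2 h0)
  exact moved_of_quot hexpU h (ih _ hlt (U ⧸ fix0 H U) rfl (quot_exp hexpU) (meas_quot_ge hmU))
    hA hA0 hmU

end Cfsg.Agent.Lib.FFMin
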