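import Cfsg.Agent.Lib.FFMin.Reduce
import Cfsg.Agent.Lib.SL2Recog.Reduce

/-!
# Partners, decompositions along members, and the two-conjugate case

`IsPartner` records a conjugate of a member opposite to it and orthogonal to the other members of
the same Sylow subgroup. The statement `Main` is the one proved by induction in `Induction`.
-/

set_option autoImplicit false
set_option linter.unusedSectionVars false

namespace Cfsg.Agent.Lib.FFMin

open Subgroup SL2Recog
open scoped Pointwise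

universe u

section Defs

variable {H V : Type*} [Group H] [AddCommGroup V] [DistribMulAction H V]

/-- `cnj g A` is a partner of the member `A` of `T`. -/
structure IsPartner (p : ℕ) (V : Type*) [AddCommGroup V] [DistribMulAction H V]
    (T M A : Subgroup H) (g : H) : Prop where
  not_le : ¬ cnj g A ≤ M
  opp : ∀ a ∈ A, a ≠ 1 → ∀ v : V, dev a v ∈ fx V (cnj g A) → v ∈ fx V A
  orth : ∀ D : Subgroup H, Mem p V D → D ≤ T → D ≠ A → ∀ d ∈ D, ∀ v : V, dev d v ∈ fx V (cnj g A)

/-- Every member of a Sylow subgroup has a partner. -/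
def Partner (p : ℕ) (H V : Type*) [Group H] [AddCommGroup V] [DistribMulAction H V] : Prop :=
  ∀ (T : Sylow p H) (M : Subgroup H), UMax p M → (T : Subgroup H) ≤ M →
    ∀ A : Subgroup H, Mem p V A → A ≤ T → ∃ g : H, IsPartner p V T M A g

/-- Quadratic offenders are generated by members. -/
def Gen (p : ℕ) (H V : Type*) [Group H] [AddCommGroup V] [DistribMulAction H V] : Prop :=
  ∀ A : Subgroup H, Elem p A → meas V A = Nat.card V → Quad V A →
    A ≤ sSup {D | Mem p V D ∧ D ≤ A}

/-- The statement proved by induction. -/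
def Main (p : ℕ) (H V : Type*) [Group H] [AddCommGroup V] [DistribMulAction H V] : Prop :=
  Bound p H V ∧ (Moved p H V → Semi p H V ∧ Partner p H V ∧ Gen p H V)

/-- The induction hypothesis. -/
def Below (p n : ℕ) : Prop :=
  ∀ (K W : Type u) [Group K] [AddCommGroup W] [DistribMulAction K W] [Finite K] [Finite W]
    [FaithfulSMul K W], (∀ w : W, p • w = 0) → Hyp p K → Nat.card K + Nat.card W < n → Main p K W

/-- Elements moving every vector into `U`. -/
def fxTo (U : AddSubgroup V) : Subgroup H where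
  carrier := {x | ∀ v : V, dev x v ∈ U}
  one_mem' := fun v => by rw [dev_one]; exact zero_mem _
  mul_mem' := fun {x y} hx hy v => by
    rw [dev_mul, smul_eq x (dev y v)]
    exact add_mem (add_mem (hy v) (hx _)) (hx v)
  inv_mem' := fun {x} hx v => by rw [dev_inv]; exact neg_mem (hx _)

theorem mem_fxTo {U : AddSubgroup V} {x : H} : x ∈ fxTo U ↔ ∀ v : V, dev x v ∈ U := Iff.rfl

theorem le_stab {v : V} {A : Subgroup H} : A ≤ MulAction.stabilizer H v ↔ v ∈ fx V A :=
  ⟨fun h a ha => MulAction.mem_stabilizer_iff.1 (h ha),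
    fun h a ha => MulAction.mem_stabilizer_iff.2 (h a ha)⟩

theorem mem_fx_sSup {S : Set (Subgroup H)} {v : V} (h : ∀ D ∈ S, v ∈ fx V D) :
    v ∈ fx V (sSup S) :=
  le_stab.1 (sSup_le fun D hD => le_stab.2 (h D hD))

theorem Quad.mono {A B : Subgroup H} (hA : Quad V A) (h : B ≤ A) : Quad V B :=
  fun b hb v => fx_anti h (hA b (h hb) v)

theorem Quad.cnj {A : Subgroup H} (hA : Quad V A) (g : H) : Quad V (cnj g A) := by
  rintro _ ⟨a, ha, rfl⟩ v
  have h := (smul_mem_fx_cnj g).2 (hA a ha (g⁻¹ • v))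
  rwa [smul_dev, smul_inv_smul] at h

theorem cnj_le_cnj {g : H} {A B : Subgroup H} (h : A ≤ cnj g B) : cnj g⁻¹ A ≤ B := by
  refine (cnj_mono g⁻¹ h).trans (le_of_eq ?_)
  rw [cnj_cnj, inv_mul_cancel, cnj_one]

theorem cnj_le_of_mem {g : H} {A B : Subgroup H} (hg : g ∈ B) (h : A ≤ B) : cnj g A ≤ B :=
  (cnj_mono g h).trans (cnj_self hg).le

end Defs

variable {H V : Type u} [Group H] [AddCommGroup V] [DistribMulAction H V] {p : ℕ}
  [Finite H] [Finite V] [FaithfulSMul H V] [Fact p.Prime]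

/-! ### Counting and fixed points -/

theorem card_map_mul_add {U U' : Type*} [AddCommGroup U] [AddCommGroup U'] [Finite U]
    (P : AddSubgroup U) (f : U →+ U') :
    Nat.card P = Nat.card (P.map f) * Nat.card ↥(P ⊓ f.ker) := by
  set g := f.comp P.subtype with hg
  have hr : g.range = P.map f := by
    rw [hg, AddMonoidHom.range_eq_map, ← AddSubgroup.map_map, ← AddMonoidHom.range_eq_map,
      AddSubgroup.range_subtype]
  have hk : g.ker = (P ⊓ f.ker).addSubgroupOf P := by
    ext x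
    exact ⟨fun hx => AddSubgroup.mem_addSubgroupOf.2 ⟨x.2, hx⟩,
      fun hx => (AddSubgroup.mem_addSubgroupOf.1 hx).2⟩
  rw [g.ker.card_eq_card_quotient_mul_card_addSubgroup,
    Nat.card_congr (QuotientAddGroup.quotientKerEquivRange g).toEquiv, hr, hk,
    Nat.card_congr (AddSubgroup.addSubgroupOfEquivOfLe (inf_le_left : P ⊓ f.ker ≤ P)).toEquiv]

theorem prime_dvd_card {U : Type*} [AddCommGroup U] [Finite U] [Nontrivial U]
    (hexp : ∀ v : U, p • v = 0) : p ∣ Nat.card U := by
  obtain ⟨v, hv⟩ := exists_ne (0 : U)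
  have h := addOrderOf_dvd_natCard v
  rwa [addOrderOf_eq_prime (hexp v) hv] at h

/-- A `p`-group fixes a nonzero vector. -/
theorem exists_fix_ne_zero [Nontrivial V] (hexp : ∀ v : V, p • v = 0) {P : Subgroup H}
    (hP : IsPGroup p P) : ∃ v : V, v ≠ 0 ∧ ∀ x ∈ P, x • v = v := by
  obtain ⟨v, hv, hv0⟩ := hP.exists_fixed_point_of_prime_dvd_card_of_fixed_point V
    (prime_dvd_card hexp) (a := 0) fun x => smul_zero x
  exact ⟨v, hv0.symm, fun x hx => hv ⟨x, hx⟩⟩

/-- A `p`-group normalising a proper subgroup of `V` has a fixed point outside modulo it. -/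
theorem exists_fix_mod (hexp : ∀ v : V, p • v = 0) {P : Subgroup H} (hP : IsPGroup p P)
    {U : AddSubgroup V} (hU : U ≠ ⊤) (hinv : ∀ x ∈ P, ∀ u ∈ U, x • u ∈ U) :
    ∃ v ∉ U, ∀ x ∈ P, dev x v ∈ U := by
  let act : P → V ⧸ U →+ V ⧸ U := fun x =>
    QuotientAddGroup.map U U (DistribSMul.toAddMonoidHom V (x : H)) fun u hu => hinv x x.2 u hu
  letI : MulAction P (V ⧸ U) :=
    { smul := fun x => act x
      one_smul := by
        rintro ⟨v⟩
        exact congrArg QuotientAddGroup.mk (one_smul H v)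
      mul_smul := by
        rintro x y ⟨v⟩
        exact congrArg QuotientAddGroup.mk (mul_smul (x : H) y v) }
  have : Nontrivial (V ⧸ U) := by
    obtain ⟨v, hv⟩ : ∃ v, v ∉ U := by
      by_contra! h
      exact hU (eq_top_iff.2 fun v _ => h v)
    exact ⟨(v : V ⧸ U), 0, fun h => hv ((QuotientAddGroup.eq_zero_iff v).1 h)⟩
  obtain ⟨q, hq, hq0⟩ := hP.exists_fixed_point_of_prime_dvd_card_of_fixed_point (V ⧸ U)
    (prime_dvd_card (U := V ⧸ U) (by rintro ⟨v⟩; exact congrArg QuotientAddGroup.mk (hexp v)))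
    (a := 0) fun x => map_zero (act x)
  obtain ⟨v, rfl⟩ := QuotientAddGroup.mk_surjective q
  refine ⟨v, fun h => hq0.symm ((QuotientAddGroup.eq_zero_iff v).2 h), fun x hx => ?_⟩
  rw [← QuotientAddGroup.eq_zero_iff, dev, QuotientAddGroup.mk_sub, sub_eq_zero]
  exact hq ⟨x, hx⟩

/-- A `p`-group normalising a nontrivial `p`-subgroup centralises a nontrivial element of it. -/
theorem exists_commuting {P F : Subgroup H} (hP : IsPGroup p P) (hF : IsPGroup p F) (hF0 : F ≠ ⊥)
    (hn : P ≤ normalizer (F : Set H)) : ∃ f ∈ F, f ≠ 1 ∧ ∀ x ∈ P, x * f = f * x := by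
  letI : MulAction P F :=
    { smul := fun x f => ⟨(x : H) * f * (x : H)⁻¹, (mem_normalizer_iff.1 (hn x.2) f).1 f.2⟩
      one_smul := fun f => Subtype.ext (by
        show ((1 : P) : H) * f * ((1 : P) : H)⁻¹ = f
        simp)
      mul_smul := fun x y f => Subtype.ext (by
        show ((x * y : P) : H) * f * ((x * y : P) : H)⁻¹ = x * (y * f * (y : H)⁻¹) * (x : H)⁻¹
        simp [mul_assoc]) }
  have hdvd : p ∣ Nat.card F := by
    obtain ⟨k, hk⟩ := IsPGroup.iff_card.1 hF
    rw [hk]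
    refine dvd_pow_self p fun h => hF0 (Subgroup.eq_bot_of_card_eq F ?_)
    rw [hk, h, pow_zero]
  obtain ⟨f, hf, hf1⟩ := hP.exists_fixed_point_of_prime_dvd_card_of_fixed_point F hdvd
    (a := 1) fun x => Subtype.ext (by
      show (x : H) * ((1 : F) : H) * (x : H)⁻¹ = ((1 : F) : H)
      simp)
  refine ⟨f, f.2, fun h => hf1.symm (Subtype.ext h), fun x hx => ?_⟩
  have := congrArg Subtype.val (hf ⟨x, hx⟩)
  exact mul_inv_eq_iff_eq_mul.1 this

/-! ### The two-conjugate case -/

theorem gen_or_overgroup (h : Hyp p H) {A : Subgroup H} (hA : IsPGroup p A) (hA0 : A ≠ ⊥)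
    {M : Subgroup H} (hM : UMax p M) (hAM : A ≤ M) :
    (∀ x : H, x ∉ M → A ⊔ cnj x A = ⊤) ∨
      ∃ M' X : Subgroup H, UMax p M' ∧ A ≤ M' ∧ X ≠ ⊤ ∧ A ≤ X ∧ ¬ X ≤ M' := by
  refine or_iff_not_imp_right.2 fun hno x hx => ?_
  push Not at hno
  by_contra hne
  have h1 : cnj x A ≤ M := le_sup_right.trans (hno M _ hM hAM hne le_sup_left)
  have h2 : A ≤ cnj x⁻¹ M := by
    intro a ha
    have h3 : x * a * x⁻¹ ∈ M := h1 (mem_map_of_mem _ ha)
    rw [mem_cnj, inv_inv]
    exact h3
  have h3 := hno _ M (hM.cnj x⁻¹) h2 hM.1 hAM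
  have h4 : cnj x⁻¹ M = M := (eq_of_le_of_card_ge h3 (card_cnj x⁻¹ M).le).symm
  refine hx ?_
  have := hM.mem_of_normalizer h hAM hA hA0 (mem_normalizer_iff_map_conj_eq.2 h4)
  exact inv_mem_iff.1 this

/-- If two conjugates outside a maximal subgroup generate, the module is natural. -/
theorem base (hexp : ∀ v : V, p • v = 0) (hz : Moved p H V) {A M : Subgroup H} {T : Sylow p H}
    (hA : Elem p A) (hTM : (T : Subgroup H) ≤ M) (hM : M ≠ ⊤) (hAT : A ≤ T)
    (hgen : ∀ x : H, x ∉ M → A ⊔ cnj x A = ⊤) (hcard : Nat.card V ≤ meas V A)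
    (hstrict : ∀ B : Subgroup H, B ≤ A → B ≠ ⊥ → B ≠ A → meas V B < meas V A) :
    meas V A = Nat.card V ∧ (∀ a ∈ A, a ≠ 1 → ∀ v : V, dev a v ∈ fix0 H V → v ∈ fx V A) ∧
      ∀ x : H, x ∉ M → ∀ a ∈ A, a ≠ 1 → ∀ v : V, dev a v ∈ fx V (cnj x A) → v ∈ fx V A := by
  classical
  obtain ⟨z, hzT, hzm⟩ := hz.forall T
  obtain ⟨F, fieldF, fintF, hF, -, ρ, π, hπ, hπ0, hρ⟩ :=
    exists_natural_model T M A hexp hA.pow hA.comm hTM hM hAT hgen hcard hstrict z hzT hzm
  have hker : π.ker = fix0 H V := by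
    ext v
    rw [AddMonoidHom.mem_ker, hπ0]
  have hf0 : fix0 H V ≤ fx V A := fx_anti le_top
  set P := (fx V A).map π with hP
  have hfxA : Nat.card (fx V A) = Nat.card P * Nat.card (fix0 H V) := by
    rw [card_map_mul_add (fx V A) π, hker, inf_eq_right.2 hf0]
  have hV : Nat.card V = Nat.card F * Nat.card F * Nat.card (fix0 H V) := by
    have h := card_map_mul_add (⊤ : AddSubgroup V) π
    rw [top_inf_eq, hker, AddSubgroup.map_top_of_surjective _ hπ, AddSubgroup.card_top,
      AddSubgroup.card_top, Nat.card_fun, Nat.card_fin, pow_two] at h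
    exact h
  have hFA : Nat.card F = Nat.card A := by rw [Nat.card_eq_fintype_card]; exact hF
  have hax : ∀ a ∈ A, a ≠ 1 → Nat.card P = Nat.card F ∧
      ∀ v : V, dev a v ∈ fix0 H V → π v ∈ P := by
    intro a ha ha1
    set m : Matrix (Fin 2) (Fin 2) F := ((ρ a : _) : Matrix (Fin 2) (Fin 2) F) with hm
    set U := LinearMap.ker (Matrix.mulVecLin m - LinearMap.id) with hU
    have hUmem : ∀ y : Fin 2 → F, y ∈ U ↔ m.mulVec y = y := fun y => by
      rw [hU, LinearMap.mem_ker, LinearMap.sub_apply, Matrix.mulVecLin_apply, LinearMap.id_apply,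
        sub_eq_zero]
    have hUne : U ≠ ⊤ := fun h => ha1 (ρ.injective (by
      rw [map_one]
      refine Subtype.ext (Matrix.ext_iff_mulVec.2 fun y => ?_)
      show m.mulVec y = (1 : Matrix (Fin 2) (Fin 2) F).mulVec y
      rw [Matrix.one_mulVec]
      exact (hUmem y).1 (h ▸ Submodule.mem_top)))
    have hUcard : Nat.card U ≤ Nat.card F := by
      have h1 : Module.finrank F U ≤ 1 := by
        have := Submodule.finrank_lt hUne
        rw [Module.finrank_fin_fun] at this
        omega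
      rw [Module.natCard_eq_pow_finrank (K := F) (V := U)]
      exact (Nat.pow_le_pow_right Nat.card_pos h1).trans_eq (pow_one _)
    have hPU : ∀ y ∈ P, y ∈ U := by
      rintro _ ⟨v, hv, rfl⟩
      rw [hUmem, hm, ← hρ, hv a ha]
    have hle : P ≤ U.toAddSubgroup := hPU
    have h1 : Nat.card P ≤ Nat.card F :=
      (AddSubgroup.card_le_of_le hle).trans hUcard
    have h2 : Nat.card F ≤ Nat.card P := by
      have h := hcard
      rw [meas, hfxA, hV, ← hFA, ← mul_assoc] at h
      exact Nat.le_of_mul_le_mul_left (Nat.le_of_mul_le_mul_right h Nat.card_pos) Nat.card_pos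
    refine ⟨le_antisymm h1 h2, fun v hv => ?_⟩
    have heq : P = U.toAddSubgroup :=
      AddSubgroup.eq_of_le_of_card_ge hle (hUcard.trans h2)
    rw [heq]
    show π v ∈ U
    rw [hUmem, hm, ← hρ]
    have h3 := (hπ0 _).2 hv
    rw [dev, map_sub, sub_eq_zero] at h3
    exact h3
  have hsemi : ∀ a ∈ A, a ≠ 1 → ∀ v : V, dev a v ∈ fix0 H V → v ∈ fx V A := by
    intro a ha ha1 v hv
    obtain ⟨w, hw, hwv⟩ := (hax a ha ha1).2 v hv
    have : v - w ∈ fix0 H V := (hπ0 _).1 (by rw [map_sub, hwv, sub_self])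
    simpa using add_mem (hf0 this) hw
  obtain ⟨a, ha, ha1⟩ : ∃ a ∈ A, a ≠ 1 := by
    by_contra! h
    have h1 : Fintype.card F ≤ 1 := by
      rw [show A = ⊥ from (eq_bot_iff_forall A).2 h] at hFA
      rw [← Nat.card_eq_fintype_card, hFA, Subgroup.card_bot]
    exact absurd (Fintype.one_lt_card (α := F)) h1.not_gt
  refine ⟨?_, hsemi, fun x hx a ha ha1 v hv => hsemi a ha ha1 v ?_⟩
  · rw [meas, hfxA, (hax a ha ha1).1, hV, ← hFA, mul_assoc]
  · show dev a v ∈ fx V (⊤ : Subgroup H)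
    rw [← hgen x hx, fx_sup]
    exact ⟨quadratic hexp hA.comm hA.pow hcard hstrict ha v, hv⟩

/-! ### Orbits and decompositions along members -/

variable {T : Sylow p H} {M A : Subgroup H}

theorem members_conj {D : Subgroup H} (hD : D ∈ members p V (T : Subgroup H)) {t : H}
    (ht : t ∈ (T : Subgroup H)) : cnj t D ∈ members p V (T : Subgroup H) :=
  ⟨hD.1.cnj t, cnj_le_of_mem ht hD.2⟩

theorem IsPartner.conj {g t : H} (hg : IsPartner p V T M A g) (ht : t ∈ (T : Subgroup H))
    (hTM : (T : Subgroup H) ≤ M) : IsPartner p V T M (cnj t A) (t * g * t⁻¹) := by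
  have e : cnj (t * g * t⁻¹) (cnj t A) = cnj t (cnj g A) := by
    rw [cnj_cnj, cnj_cnj, inv_mul_cancel_right]
  refine ⟨?_, ?_, fun D hD hDT hne d hd v => ?_⟩
  · rw [e]
    intro hle
    refine hg.not_le ?_
    have := cnj_le_of_mem (inv_mem (hTM ht)) hle
    rwa [cnj_cnj, inv_mul_cancel, cnj_one] at this
  · rw [e]
    intro a ha ha1 v hv
    have h1 := mem_cnj.1 ha
    have h2 : t⁻¹ * a * t ≠ 1 := fun h3 => ha1 (by
      calc a = t * (t⁻¹ * a * t) * t⁻¹ := by group
        _ = 1 := by rw [h3, mul_one, mul_inv_cancel])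
    have h4 : dev (t⁻¹ * a * t) (t⁻¹ • v) ∈ fx V (cnj g A) := by
      rw [← smul_mem_fx_cnj t, smul_dev, smul_inv_smul]
      simpa [mul_assoc] using hv
    have h5 := (smul_mem_fx_cnj t).2 (hg.opp _ h1 h2 _ h4)
    rwa [smul_inv_smul] at h5
  · rw [e, ← smul_inv_smul t (dev d v), smul_mem_fx_cnj, smul_dev]
    refine hg.orth (cnj t⁻¹ D) (hD.cnj _) (cnj_le_of_mem (inv_mem ht) hDT) (fun h => hne ?_) _
      (mem_map_of_mem _ hd) _
    rw [← h, cnj_cnj, mul_inv_cancel, cnj_one]

/-- One partner makes all members of `T` conjugate under `T`. -/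
theorem IsPartner.orbit (ht : Tame p H V) (h : Hyp p H) (hM : UMax p M)
    (hTM : (T : Subgroup H) ≤ M) {g : H} (hA : Mem p V A) (hAT : A ≤ T)
    (hg : IsPartner p V T M A g) {D : Subgroup H} (hD : Mem p V D) (hDT : D ≤ T) :
    ∃ t ∈ (T : Subgroup H), D = cnj t A := by
  by_contra! hne
  set J' : Set (Subgroup H) :=
    {E | E ∈ members p V (T : Subgroup H) ∧ ∀ t ∈ (T : Subgroup H), E ≠ cnj t A} with hJ'
  set J := sSup J' with hJ
  have hTn : (T : Subgroup H) ≤ normalizer (J : Set H) := by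
    intro t htT
    refine mem_normalizer_iff_map_conj_eq.2
      (Subgroup.eq_of_le_of_card_ge ?_ (card_cnj t J).ge)
    rw [map_le_iff_le_comap]
    refine sSup_le fun E hE => map_le_iff_le_comap.1 (le_sSup ?_)
    refine ⟨members_conj hE.1 htT, fun s hs (he : SL2Recog.cnj t E = SL2Recog.cnj s A) => hE.2 (t⁻¹ * s) (mul_mem (inv_mem htT) hs) ?_⟩
    have he' := congrArg (SL2Recog.cnj t⁻¹) he
    rwa [cnj_cnj, cnj_cnj, inv_mul_cancel, cnj_one] at he'
  have hBn : cnj g A ≤ normalizer (J : Set H) := by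
    refine le_trans (fun b hb => ?_) (centralizer_le_normalizer _)
    rw [mem_centralizer_iff]
    intro x hx
    have hle : J ≤ centralizer ({b} : Set H) := sSup_le fun E hE e he => by
      have hEA : E ≠ A := by simpa [cnj_one] using hE.2 1 (one_mem _)
      have hc := ht.comm_of_le hE.1.1 (hA.cnj g) (hg.orth E hE.1.1 hE.1.2 hEA)
      exact mem_centralizer_singleton_iff.2 (hc e he b hb)
    exact (mem_centralizer_singleton_iff.1 (hle hx))
  have htop : normalizer (J : Set H) = ⊤ := by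
    by_contra hne'
    exact hg.not_le (hBn.trans (hM.2.2 T hTM _ hne' hTn))
  have hbot := h.core J (normalizer_eq_top_iff.1 htop) (T.2.to_le (sSup_le fun E hE => hE.1.2))
  exact hD.ne_bot (le_bot_iff.1 (hbot ▸ le_sSup (show D ∈ J' from ⟨⟨hD, hDT⟩, hne⟩)))

theorem Partner.orbit (hP : Partner p H V) (ht : Tame p H V) (h : Hyp p H) (hA : Mem p V A)
    (hAT : A ≤ T) {D : Subgroup H} (hD : Mem p V D) (hDT : D ≤ T) :
    ∃ t ∈ (T : Subgroup H), D = cnj t A := by
  obtain ⟨M, hM, hTM⟩ := h.exists_umax T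
  obtain ⟨g, hg⟩ := hP T M hM hTM A hA hAT
  exact hg.orbit ht h hM hTM hA hAT hD hDT

theorem IsPartner.sSup_le_fxTo {g : H} (hg : IsPartner p V T M A g) {S : Set (Subgroup H)}
    (hS : S ⊆ members p V (T : Subgroup H)) :
    sSup (S \ {A}) ≤ fxTo (fx V (cnj g A)) :=
  sSup_le fun D hD => fun d hd => hg.orth D (hS hD.1).1 (hS hD.1).2 hD.2 d hd

/-- Decomposition along a member. -/
theorem exists_split (ht : Tame p H V) {S : Set (Subgroup H)}
    (hS : S ⊆ members p V (T : Subgroup H)) {F : Subgroup H} (hF : F ∈ S) {e : H}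
    (he : e ∈ sSup S) : ∃ x ∈ sSup (S \ {F}), ∃ f ∈ F, x * f = e := by
  have hE := (ht.memSup T.2).1
  have h1 : sSup (S \ {F}) ≤ normalizer (F : Set H) := fun x hx =>
    centralizer_le_normalizer _ (mem_centralizer_iff.2 fun f hf =>
      hE.comm f (le_sSup (hS hF) hf) x (sSup_le_sSup (fun _ hD => hS hD.1) hx))
  have h2 : sSup S ≤ sSup (S \ {F}) ⊔ F := sSup_le fun D hD => by
    by_cases hDF : D = F
    · exact hDF ▸ le_sup_right
    · exact le_sup_of_le_left (le_sSup ⟨hD, hDF⟩)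
  have h3 := h2 he
  rw [← SetLike.mem_coe, coe_mul_of_left_le_normalizer_right _ _ h1] at h3
  exact Set.mem_mul.1 h3

/-- The component along a member fixes what the element moves into the partner's fixed points. -/
theorem IsPartner.smul_component (ht : Tame p H V) {g : H} (hA : Mem p V A)
    (hg : IsPartner p V T M A g) {S : Set (Subgroup H)} (hS : S ⊆ members p V (T : Subgroup H))
    {x f : H} (hx : x ∈ sSup (S \ {A})) (hf : f ∈ A) {c : V}
    (hc : dev (x * f) c ∈ fx V (cnj g A)) : f • c = c := by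
  rcases eq_or_ne f 1 with rfl | hf1
  · exact one_smul H c
  refine dev_eq_zero_iff.1 (dev_eq_zero hf (hg.opp f hf hf1 c ?_))
  have hxo := mem_fxTo.1 (hg.sSup_le_fxTo hS hx)
  rw [dev_mul, smul_eq x (dev f c)] at hc
  have := sub_mem hc (add_mem (hxo (dev f c)) (hxo c))
  simpa [add_assoc] using this

/-- An element moving a vector into all partner fixed points fixes it. -/
theorem smul_eq_of_partners (ht : Tame p H V) {S : Set (Subgroup H)}
    (hS : S ⊆ members p V (T : Subgroup H)) (g : Subgroup H → H)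
    (hg : ∀ F ∈ S, IsPartner p V T M F (g F)) {e : H} (he : e ∈ sSup S) {c : V}
    (hc : ∀ F ∈ S, dev e c ∈ fx V (cnj (g F) F)) : e • c = c := by
  have hfin : S.Finite := Set.toFinite S
  induction S, hfin using Set.Finite.induction_on generalizing e with
  | empty =>
    rw [sSup_empty] at he
    rw [mem_bot.1 he, one_smul]
  | @insert F s hFs _ ih =>
    obtain ⟨x, hx, f, hf, rfl⟩ := exists_split ht hS (Set.mem_insert F s) he
    have hfc : f • c = c := (hg F (Set.mem_insert F s)).smul_component ht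
      (hS (Set.mem_insert F s)).1 hS hx hf (hc F (Set.mem_insert F s))
    have hdev : dev (x * f) c = dev x c := by rw [dev, dev, mul_smul, hfc]
    rw [mul_smul, hfc]
    refine ih (fun D hD => hS (Set.mem_insert_of_mem F hD))
      (fun D hD => hg D (Set.mem_insert_of_mem F hD)) ?_
      fun D hD => hdev ▸ hc D (Set.mem_insert_of_mem F hD)
    refine (sSup_le_sSup ?_ : sSup (insert F s \ {F}) ≤ sSup s) hx
    rintro D ⟨hD | hD, hne⟩
    · exact absurd hD hne
    · exact hD

/-- An offender inside the group generated by the members of `T` is generated by members. -/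
theorem gen_of_le (ht : Tame p H V) (hP : Partner p H V) (h : Hyp p H)
    (hm : meas V A = Nat.card V) (hAE : A ≤ memSup p V (T : Subgroup H)) :
    A ≤ sSup {D | Mem p V D ∧ D ≤ A} := by
  obtain ⟨M, hM, hTM⟩ := h.exists_umax T
  obtain ⟨S, ⟨hS, hAS⟩, hmin⟩ := Set.Finite.exists_minimalFor id
    {S : Set (Subgroup H) | S ⊆ members p V (T : Subgroup H) ∧ A ≤ sSup S} (Set.toFinite _)
    ⟨_, le_rfl, hAE⟩
  have hfx : ∀ F ∈ S, fx V A ≤ fx V F := by
    intro F hF c hc
    obtain ⟨g, hg⟩ := hP T M hM hTM F (hS hF).1 (hS hF).2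
    by_contra hcF
    have hle : A ≤ sSup (S \ {F}) := by
      intro a ha
      obtain ⟨x, hx, f, hf, rfl⟩ := exists_split ht hS hF (hAS ha)
      have hfc := hg.smul_component ht (hS hF).1 hS hx hf
        (c := c) (by rw [dev_eq_zero ha hc]; exact zero_mem _)
      rcases eq_or_ne f 1 with rfl | hf1
      · rwa [mul_one]
      · exact absurd (ht.semi F (hS hF).1 f hf hf1 c hfc) hcF
    have := hmin ⟨fun D hD => hS hD.1, hle⟩ Set.sdiff_subset
    exact (this hF).2 rfl
  obtain ⟨hel, hmS⟩ := meas_sSup_eq ht.bound (fun D hD => ⟨(hS hD).1.elem, (hS hD).1.meas_eq⟩)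
    fun D hD D' hD' => ht.comm_members T.2 (hS hD).1 (hS hD).2 (hS hD').1 (hS hD').2
  have heq : fx V (sSup S) = fx V A :=
    le_antisymm (fx_anti hAS) fun c hc => mem_fx_sSup fun F hF => hfx F hF hc
  have hAeq : A = sSup S := by
    refine eq_of_le_of_card_ge hAS (le_of_eq ?_)
    rw [meas, heq, ← hm, meas] at hmS
    exact Nat.eq_of_mul_eq_mul_right Nat.card_pos hmS
  conv_lhs => rw [hAeq]
  exact sSup_le_sSup fun D hD => ⟨(hS hD).1, hAeq ▸ le_sSup hD⟩

end Cfsg.Agent.Lib.FFMin
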