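import Cfsg.Agent.Lib.FFMin.Basic

/-!
# Members of one `p`-group commute

Assuming the bound `|A| |C_V(A)| ≤ |V|` and semiregularity of members, two members in one
`p`-subgroup commute elementwise.
-/

set_option autoImplicit false
set_option linter.unusedSectionVars false

namespace Cfsg.Agent.Lib.FFMin

open Subgroup SL2Recog
open scoped Pointwise

variable {H V : Type*} [Group H] [AddCommGroup V] [DistribMulAction H V] {p : ℕ}
  [Finite H] [Finite V] [FaithfulSMul H V] [Fact p.Prime]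

/-- The data assumed in this file. -/
structure Tame (p : ℕ) (H V : Type*) [Group H] [AddCommGroup V] [DistribMulAction H V] : Prop where
  exp : ∀ v : V, p • v = 0
  bound : Bound p H V
  semi : Semi p H V

variable {A B : Subgroup H}

theorem nsmul_dev_eq {g : H} (hd : ∀ v : V, g • dev g v = dev g v) (k : ℕ) (v : V) :
    g ^ k • v = v + k • dev g v := by
  induction k with
  | zero => simp
  | succ k ih =>
    rw [pow_succ, mul_smul, smul_eq g v, smul_add, ih, succ_nsmul]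
    have : g ^ k • dev g v = dev g v := by
      clear ih
      induction k with
      | zero => simp
      | succ k ih => rw [pow_succ, mul_smul, hd, ih]
    rw [this]
    abel

/-- An element fixing `C_V(F)` pointwise and moving everything into it lies in a quadratic
maximal offender `F`. -/
theorem mem_of_axis (hexp : ∀ v : V, p • v = 0) (hb : Bound p H V) {F : Subgroup H}
    (hF : Elem p F) (hm : meas V F = Nat.card V) (hq : Quad V F) {g : H}
    (hfix : ∀ v ∈ fx V F, g • v = v) (hdev : ∀ v : V, dev g v ∈ fx V F) : g ∈ F := by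
  let X : Subgroup H :=
    { carrier := {x | (∀ v ∈ fx V F, x • v = v) ∧ ∀ v : V, dev x v ∈ fx V F}
      one_mem' := ⟨fun v _ => one_smul H v, fun v => by rw [dev_one]; exact zero_mem _⟩
      mul_mem' := fun {x y} hx hy => ⟨fun v hv => by rw [mul_smul, hy.1 v hv, hx.1 v hv],
        fun v => by rw [dev_mul, hx.1 _ (hy.2 v)]; exact add_mem (hy.2 v) (hx.2 v)⟩
      inv_mem' := fun {x} hx => ⟨fun v hv => by rw [inv_smul_eq_iff, hx.1 v hv], fun v => by
        rw [dev_inv]; exact neg_mem (hx.2 _)⟩ }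
  have hXF : F ≤ X := fun a ha => ⟨fun v hv => hv a ha, fun v => hq a ha v⟩
  have hXe : Elem p X := by
    refine ⟨fun x hx y hy => eq_of_smul_eq_smul fun v : V => ?_, fun x hx =>
      eq_of_smul_eq_smul fun v : V => ?_⟩
    · have h1 := dev_dev_sub x y v
      rw [dev_eq_zero_iff.2 (hx.1 _ (hy.2 v)), dev_eq_zero_iff.2 (hy.1 _ (hx.2 v)), sub_zero] at h1
      exact sub_eq_zero.1 h1.symm
    · rw [nsmul_dev_eq (fun w => hx.1 _ (hx.2 w)), hexp, add_zero, one_smul]
  have hfx : fx V F ≤ fx V X := fun v hv x hx => hx.1 v hv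
  have hcard : Nat.card X ≤ Nat.card F := by
    refine Nat.le_of_mul_le_mul_right ?_ (Nat.card_pos (α := fx V F))
    calc Nat.card X * Nat.card (fx V F) ≤ meas V X :=
          Nat.mul_le_mul_left _ (AddSubgroup.card_le_of_le hfx)
      _ ≤ Nat.card V := hb X hXe
      _ = Nat.card F * Nat.card (fx V F) := hm.symm
  have : F = X := Subgroup.eq_of_le_of_card_ge hXF hcard
  rw [this]
  exact ⟨hfix, hdev⟩

/-- Members are determined by their fixed points. -/
theorem Tame.eq_of_fx (hT : Tame p H V) (hA : Mem p V A) (hB : Mem p V B)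
    (h : fx V A = fx V B) : A = B := by
  refine le_antisymm (fun a ha => ?_) fun b hb => ?_
  · exact mem_of_axis hT.exp hT.bound hB.elem hB.meas_eq (hB.quad hT.exp)
      (fun v hv => (h ▸ hv : v ∈ fx V A) a ha) fun v => h ▸ hA.quad hT.exp a ha v
  · exact mem_of_axis hT.exp hT.bound hA.elem hA.meas_eq (hA.quad hT.exp)
      (fun v hv => (h ▸ hv : v ∈ fx V B) b hb) fun v => h ▸ hB.quad hT.exp b hb v

theorem Tame.fx_eq (hT : Tame p H V) (hA : Mem p V A) {a : H} (ha : a ∈ A) (ha1 : a ≠ 1) {v : V} :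
    v ∈ fx V A ↔ dev a v = 0 :=
  ⟨fun hv => dev_eq_zero ha hv, fun hv => hT.semi A hA a ha ha1 v (dev_eq_zero_iff.1 hv)⟩

theorem Tame.inf_eq_bot (hT : Tame p H V) (hA : Mem p V A) (hB : Mem p V B) (hne : A ≠ B) :
    A ⊓ B = ⊥ := by
  refine (eq_bot_iff_forall _).2 fun x hx => ?_
  by_contra h1
  refine hne (hT.eq_of_fx hA hB ?_)
  ext v
  rw [hT.fx_eq hA hx.1 h1, hT.fx_eq hB hx.2 h1]

theorem Tame.card_range (hT : Tame p H V) (hA : Mem p V A) {a : H} (ha : a ∈ A) (ha1 : a ≠ 1) :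
    Nat.card (devHom V a).range = Nat.card A := by
  have hker : (devHom V a).ker = fx V A := by
    ext v
    rw [AddMonoidHom.mem_ker, devHom_apply]
    exact (hT.fx_eq hA ha ha1).symm
  have h := card_range_mul_ker (devHom V a)
  rw [hker, ← hA.meas_eq, meas] at h
  exact Nat.eq_of_mul_eq_mul_right Nat.card_pos h

/-- If `[V, A] ≤ C_V(B)` then `A` and `B` commute. -/
theorem Tame.comm_of_le (hT : Tame p H V) (hA : Mem p V A) (hB : Mem p V B)
    (h : ∀ a ∈ A, ∀ v : V, dev a v ∈ fx V B) : Comm A B := by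
  have hAinv : ∀ a ∈ A, ∀ v ∈ fx V B, a • v ∈ fx V B := fun a ha v hv => by
    rw [smul_eq]; exact add_mem hv (h a ha v)
  have hnorm : ∀ a ∈ A, ∀ b ∈ B, a * b * a⁻¹ ∈ B := by
    intro a ha b hb
    refine mem_of_axis hT.exp hT.bound hB.elem hB.meas_eq (hB.quad hT.exp) (fun v hv => ?_)
      fun v => ?_
    · rw [mul_smul, mul_smul, hAinv _ (inv_mem ha) v hv b hb, smul_inv_smul]
    · have e : dev (a * b * a⁻¹) v = a • dev b (a⁻¹ • v) := by
        rw [smul_dev, smul_inv_smul]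
      rw [e]
      exact hAinv a ha _ (hB.quad hT.exp b hb _)
  intro a₀ ha₀ b hb
  by_contra hne
  set e : H → H := fun a => a * b * a⁻¹ * b⁻¹ with he
  have heB : ∀ a ∈ A, e a ∈ B := fun a ha => mul_mem (hnorm a ha b hb) (inv_mem hb)
  have hdd : ∀ a ∈ A, ∀ v : V, dev (e a) ((b * a) • v) = dev a (dev b v) := by
    intro a ha v
    have h1 := dev_dev_sub a b v
    rw [dev_eq_zero hb (h a ha v), sub_zero] at h1
    rw [h1, dev, he, ← mul_smul]
    simp [mul_assoc]
  have hb1 : b ≠ 1 := fun h1 => hne (by rw [h1, mul_one, one_mul])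
  have he0 : e a₀ ≠ 1 := fun h1 => hne (by
    calc a₀ * b = (a₀ * b * a₀⁻¹ * b⁻¹) * (b * a₀) := by group
      _ = b * a₀ := by rw [show a₀ * b * a₀⁻¹ * b⁻¹ = 1 from h1, one_mul])
  have ha₀1 : a₀ ≠ 1 := fun h1 => hne (by rw [h1, mul_one, one_mul])
  -- `dev a` is injective on the range of `dev b`
  have hinj : ∀ v : V, dev b v ∈ fx V A → dev b v = 0 := by
    intro v hv
    have h1 := hdd a₀ ha₀ v
    rw [dev_eq_zero ha₀ hv] at h1
    have h2 := (hT.fx_eq hB (heB a₀ ha₀) he0).2 h1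
    have h3 : a₀ • v ∈ fx V B := by
      have h4 := h2 b⁻¹ (inv_mem hb)
      rw [mul_smul, inv_smul_smul] at h4
      rw [h4, ← mul_smul]
      exact h2
    have h5 := hAinv _ (inv_mem ha₀) _ h3
    rw [inv_smul_smul] at h5
    exact dev_eq_zero hb h5
  -- no element of `A` other than `1` commutes with `b`
  have hfree : ∀ a ∈ A, a * b = b * a → a = 1 := by
    intro a ha hab
    by_contra ha1
    refine hb1 (eq_one_of_dev fun v : V => hinj v ((hT.fx_eq hA ha ha1).2 ?_))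
    rw [dev_comm hab]
    exact dev_eq_zero hb (h a ha v)
  have heinj : Function.Injective fun a : A => (⟨e a, heB _ a.2⟩ : B) := by
    intro a a' h1
    have h2 : (a : H) * b * (a : H)⁻¹ = a' * b * (a' : H)⁻¹ :=
      mul_right_cancel (congrArg Subtype.val h1)
    have h3 := hfree _ (mul_mem (inv_mem a'.2) a.2) (by
      calc (a' : H)⁻¹ * a * b = (a' : H)⁻¹ * ((a : H) * b * (a : H)⁻¹) * a := by group
        _ = b * ((a' : H)⁻¹ * a) := by rw [h2]; group)
    exact Subtype.ext (inv_mul_eq_one.1 h3).symm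
  have hBA : Nat.card B ≤ Nat.card A := by
    rw [← hT.card_range hB (heB a₀ ha₀) he0, ← hT.card_range hA ha₀ ha₀1]
    refine AddSubgroup.card_le_of_le ?_
    rintro _ ⟨v, rfl⟩
    refine ⟨dev b ((b * a₀)⁻¹ • v), ?_⟩
    rw [devHom_apply, devHom_apply, ← hdd a₀ ha₀, smul_inv_smul]
  obtain ⟨⟨a, ha⟩, hab⟩ := (Function.Injective.bijective_of_nat_card_le heinj hBA).2 ⟨b, hb⟩
  have hab' : e a = b := congrArg Subtype.val hab
  have ha1 : a ≠ 1 := fun h1 => hb1 (by rw [← hab', h1]; simp [he])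
  refine hb1 (eq_one_of_dev fun v : V => hinj v ?_)
  have h1 := hdd a ha ((b * a)⁻¹ • v)
  rw [smul_inv_smul, hab'] at h1
  rw [h1]
  exact hA.quad hT.exp a ha _

/-! ### Commuting offenders -/

theorem meas_sup_eq (hb : Bound p H V) (hA : Elem p A) (hB : Elem p B) (hc : Comm A B)
    (hmA : meas V A = Nat.card V) (hmB : meas V B = Nat.card V) :
    meas V (A ⊔ B) = Nat.card V := by
  have hE := hA.sup hB hc
  have h1 := meas_mul_le (V := V) hE.comm (le_sup_left : A ≤ A ⊔ B) (le_sup_right : B ≤ A ⊔ B)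
  rw [hmA, hmB] at h1
  have h3 := hb _ (hA.mono (inf_le_left : A ⊓ B ≤ A))
  refine le_antisymm (hb _ hE) (Nat.le_of_mul_le_mul_right ?_ (Nat.card_pos (α := V)))
  exact h1.trans (Nat.mul_le_mul_left _ h3)

/-- A commuting family of offenders generates an offender. -/
theorem meas_sSup_eq (hb : Bound p H V) {S : Set (Subgroup H)}
    (hS : ∀ D ∈ S, Elem p D ∧ meas V D = Nat.card V)
    (hc : ∀ D ∈ S, ∀ D' ∈ S, Comm D D') :
    Elem p (sSup S) ∧ meas V (sSup S) = Nat.card V := by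
  suffices h : Elem p (sSup S) ∧ meas V (sSup S) = Nat.card V ∧
      ∀ B : Subgroup H, (∀ D ∈ S, Comm B D) → Comm B (sSup S) from ⟨h.1, h.2.1⟩
  have hfin : S.Finite := Set.toFinite S
  induction S, hfin using Set.Finite.induction_on with
  | empty =>
    rw [sSup_empty]
    refine ⟨⟨fun a ha b hb => ?_, fun a ha => ?_⟩, meas_bot, fun B _ x _ y hy => ?_⟩
    · rw [mem_bot.1 ha, mem_bot.1 hb]
    · rw [mem_bot.1 ha, one_pow]
    · rw [mem_bot.1 hy, mul_one, one_mul]
  | @insert a s has hfs ih =>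
    obtain ⟨h1, h2, h3⟩ := ih (fun D hD => hS D (Set.mem_insert_of_mem _ hD))
      (fun D hD D' hD' => hc D (Set.mem_insert_of_mem _ hD) D' (Set.mem_insert_of_mem _ hD'))
    have hac : Comm a (sSup s) :=
      h3 a fun D hD => hc a (Set.mem_insert _ _) D (Set.mem_insert_of_mem _ hD)
    have ha := hS a (Set.mem_insert _ _)
    rw [sSup_insert]
    refine ⟨ha.1.sup h1 hac, meas_sup_eq hb ha.1 h1 hac ha.2 h2, fun B hB x hx y hy => ?_⟩
    have hxa : a ⊔ sSup s ≤ centralizer ({x} : Set H) := by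
      refine sup_le (fun z hz => ?_) fun z hz => ?_
      · exact mem_centralizer_singleton_iff.2 (hB a (Set.mem_insert _ _) x hx z hz).symm
      · exact mem_centralizer_singleton_iff.2
          (h3 B (fun D hD => hB D (Set.mem_insert_of_mem _ hD)) x hx z hz).symm
    exact (mem_centralizer_singleton_iff.1 (hxa hy)).symm

theorem Tame.fx_sup_top (hT : Tame p H V) (hA : Mem p V A) (hB : Mem p V B) (hne : A ≠ B)
    (hc : Comm A B) : fx V A ⊔ fx V B = ⊤ := by
  have hm := meas_sup_eq hT.bound hA.elem hB.elem hc hA.meas_eq hB.meas_eq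
  have h1 := card_sup_mul_inf' (hA.elem.sup hB.elem hc).comm (le_sup_left : A ≤ A ⊔ B)
    (le_sup_right : B ≤ A ⊔ B)
  rw [hT.inf_eq_bot hA hB hne, Subgroup.card_bot, mul_one] at h1
  have h2 := card_sup_mul_inf (fx V A) (fx V B)
  rw [← fx_sup] at h2
  refine AddSubgroup.eq_top_of_card_eq _ ?_
  have hmA := hA.meas_eq
  have hmB := hB.meas_eq
  unfold meas at hm hmA hmB
  have key : Nat.card ↥(fx V A ⊔ fx V B) * Nat.card V = Nat.card V * Nat.card V := by
    calc Nat.card ↥(fx V A ⊔ fx V B) * Nat.card V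
        = Nat.card ↥(A ⊔ B) *
          (Nat.card ↥(fx V A ⊔ fx V B) * Nat.card ↥(fx V (A ⊔ B))) := by rw [← hm]; ring
      _ = (Nat.card A * Nat.card B) * (Nat.card (fx V A) * Nat.card (fx V B)) := by rw [h1, h2]
      _ = _ := by rw [← hmA]; nth_rw 2 [hmA]; rw [← hmB]; ring
  exact Nat.eq_of_mul_eq_mul_right Nat.card_pos key

/-- Distinct commuting members centralise each other's commutator spaces. -/
theorem Tame.dev_mem_fx (hT : Tame p H V) (hA : Mem p V A) (hB : Mem p V B) (hne : A ≠ B)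
    (hc : Comm A B) {a : H} (ha : a ∈ A) (v : V) : dev a v ∈ fx V B := by
  obtain ⟨x, hx, y, hy, rfl⟩ :=
    AddSubgroup.mem_sup.1 (hT.fx_sup_top hA hB hne hc ▸ AddSubgroup.mem_top v)
  rw [dev_add, dev_eq_zero ha hx, zero_add]
  intro b hb
  rw [smul_dev, (hy b hb), show b * a * b⁻¹ = a by rw [← hc a ha b hb, mul_inv_cancel_right]]

theorem Tame.comm_of_normalizes (hT : Tame p H V) (hA : Mem p V A) (hB : Mem p V B)
    (hne : A ≠ B) (h1 : B ≤ normalizer (A : Set H)) (h2 : A ≤ normalizer (B : Set H)) :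
    Comm A B := by
  intro a ha b hb
  have hA' : a * b * a⁻¹ * b⁻¹ ∈ A := by
    have := (mem_normalizer_iff.1 (h1 hb) a⁻¹).1 (inv_mem ha)
    have h3 := mul_mem ha this
    simpa [mul_assoc] using h3
  have hB' : a * b * a⁻¹ * b⁻¹ ∈ B := mul_mem ((mem_normalizer_iff.1 (h2 ha) b).1 hb) (inv_mem hb)
  have h4 : a * b * a⁻¹ * b⁻¹ ∈ A ⊓ B := ⟨hA', hB'⟩
  rw [hT.inf_eq_bot hA hB hne, mem_bot] at h4
  calc a * b = (a * b * a⁻¹ * b⁻¹) * (b * a) := by group
    _ = _ := by rw [h4, one_mul]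

/-- A member normalised by another member of the same `p`-group commutes with it. -/
theorem Tame.comm_of_normalized (hT : Tame p H V) (hA : Mem p V A) (hB : Mem p V B)
    {T : Subgroup H} (hTp : IsPGroup p T) (hAT : A ≤ T) (hBT : B ≤ T)
    (hn : B ≤ normalizer (A : Set H)) : Comm A B := by
  by_cases hne : A = B
  · subst hne
    exact hA.elem.comm
  set G := A ⊔ B with hG
  have hGp : IsPGroup p G := hTp.to_le (sup_le hAT hBT)
  have hset : ∀ x ∈ G, ∃ a ∈ A, ∃ b ∈ B, a * b = x := by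
    intro x hx
    have := coe_mul_of_right_le_normalizer_left A B hn
    rw [← SetLike.mem_coe, this] at hx
    exact Set.mem_mul.1 hx
  set N := G ⊓ normalizer (B : Set H) with hN
  by_cases hGN : G ≤ normalizer (B : Set H)
  · exact hT.comm_of_normalizes hA hB hne hn (le_sup_left.trans hGN)
  have hlt : N < G := lt_of_le_of_ne inf_le_left fun he => hGN (he ▸ inf_le_right)
  obtain ⟨g, hg, hgN⟩ := SetLike.exists_of_lt (ConjFunctor.lt_inf_normalizer hGp hlt)
  obtain ⟨d, hd, b₀, hb₀, rfl⟩ := hset g hg.1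
  set B' := cnj (d * b₀) B with hB'
  have hB'm : Mem p V B' := hB.cnj _
  have hBN : B ≤ N := le_inf le_sup_right le_normalizer
  have hne' : B ≠ B' := fun he => hgN ⟨hg.1, mem_normalizer_iff_map_conj_eq.2 he.symm⟩
  have hconjN : ∀ x, x ∈ N ↔ (d * b₀) * x * (d * b₀)⁻¹ ∈ N := fun x =>
    mem_normalizer_iff.1 hg.2 x
  have hB'N : B' ≤ N := by
    rintro _ ⟨x, hx, rfl⟩
    exact (hconjN x).1 (hBN hx)
  have hBB' : B ≤ normalizer (B' : Set H) := by
    intro x hx
    have h3 : (d * b₀)⁻¹ * x * (d * b₀) ∈ normalizer (B : Set H) :=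
      ((hconjN _).2 (by simpa [mul_assoc] using hBN hx) : (d * b₀)⁻¹ * x * (d * b₀) ∈ N).2
    rw [mem_normalizer_iff] at h3 ⊢
    intro y
    rw [hB', mem_cnj, mem_cnj, h3 ((d * b₀)⁻¹ * y * (d * b₀))]
    simp [mul_assoc]
  have hcBB' : Comm B B' := hT.comm_of_normalizes hB hB'm hne' (hB'N.trans inf_le_right) hBB'
  have htop := hT.fx_sup_top hB hB'm hne' hcBB'
  -- elements not centralised by `d`
  have hdb : ∀ b ∈ B, d * b ≠ b * d → ∀ v : V, dev b v ∈ fx V A := by
    intro b hb hne2 v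
    set b' := (d * b₀) * b⁻¹ * (d * b₀)⁻¹ with hb'
    have hb'B : b' ∈ B' := ⟨b⁻¹, inv_mem hb, rfl⟩
    have heq : b' = d * b⁻¹ * d⁻¹ := by
      rw [hb', mul_inv_rev]
      calc d * b₀ * b⁻¹ * (b₀⁻¹ * d⁻¹) = d * (b₀ * b⁻¹) * (b₀⁻¹ * d⁻¹) := by group
        _ = d * (b⁻¹ * b₀) * (b₀⁻¹ * d⁻¹) := by rw [hB.elem.comm b₀ hb₀ b⁻¹ (inv_mem hb)]
        _ = d * b⁻¹ * d⁻¹ := by group
    have heA : b * b' ∈ A := by
      rw [heq, show b * (d * b⁻¹ * d⁻¹) = (b * d * b⁻¹) * d⁻¹ by group]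
      exact mul_mem ((mem_normalizer_iff.1 (hn hb) d).1 hd) (inv_mem hd)
    obtain ⟨x, hx, y, hy, rfl⟩ := AddSubgroup.mem_sup.1 (htop ▸ AddSubgroup.mem_top v)
    rw [dev_add, dev_eq_zero hb hx, zero_add]
    have h5 : dev (b * b') y = dev b y := by
      rw [dev, dev, mul_smul, hy b' hb'B]
    rw [← h5]
    exact hA.quad hT.exp _ heA y
  refine (hT.comm_of_le hB hA fun b hb v => ?_).symm
  by_cases hbd : d * b = b * d
  · -- `d` does not centralise all of `B`
    obtain ⟨b₁, hb₁, hb₁d⟩ : ∃ b₁ ∈ B, d * b₁ ≠ b₁ * d := by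
      by_contra! hall
      refine hne' (le_antisymm (fun x hx => ?_) fun x hx => ?_)
      · rw [hB', mem_cnj]
        have : (d * b₀)⁻¹ * x * (d * b₀) = x := by
          calc (d * b₀)⁻¹ * x * (d * b₀) = b₀⁻¹ * (d⁻¹ * (x * d)) * b₀ := by group
            _ = b₀⁻¹ * x * b₀ := by rw [← hall x hx]; group
            _ = b₀⁻¹ * (b₀ * x) := by rw [mul_assoc, hB.elem.comm x hx b₀ hb₀]
            _ = x := by group
        rwa [this]
      · rw [hB', mem_cnj] at hx
        have hx' := hx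
        set y := (d * b₀)⁻¹ * x * (d * b₀) with hy
        have : x = y := by
          calc x = d * (b₀ * y) * b₀⁻¹ * d⁻¹ := by rw [hy]; group
            _ = d * (y * b₀) * b₀⁻¹ * d⁻¹ := by rw [hB.elem.comm b₀ hb₀ y hx']
            _ = (d * y) * d⁻¹ := by group
            _ = y := by rw [hall y hx']; group
        rwa [this]
    have hb₂ : d * (b * b₁) ≠ b * b₁ * d := fun h3 => hb₁d (by
      have : b * (d * b₁) = b * (b₁ * d) := by
        rw [← mul_assoc, ← hbd, mul_assoc, h3, mul_assoc]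
      exact mul_left_cancel this)
    have hb₃ : d * b₁⁻¹ ≠ b₁⁻¹ * d := fun h3 => hb₁d (by
      calc d * b₁ = b₁ * (b₁⁻¹ * d) * b₁ := by group
        _ = b₁ * (d * b₁⁻¹) * b₁ := by rw [h3]
        _ = b₁ * d := by group)
    have e : dev b v = (b * b₁) • dev b₁⁻¹ v + dev (b * b₁) v := by
      rw [← dev_mul, mul_inv_cancel_right]
    rw [e]
    exact add_mem (smul_mem_fx (hn (mul_mem hb hb₁)) (hdb _ (inv_mem hb₁) hb₃ v))
      (hdb _ (mul_mem hb hb₁) hb₂ v)
  · exact hdb b hb hbd v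

/-- A member whose conjugates under a not larger member of the same `p`-group commute with it
commutes with that member. -/
theorem Tame.comm_of_conj (hT : Tame p H V) (hA : Mem p V A) (hB : Mem p V B)
    {T : Subgroup H} (hTp : IsPGroup p T) (hAT : A ≤ T) (hBT : B ≤ T)
    (hconj : ∀ b ∈ B, Comm (cnj b A) A) (hle : Nat.card B ≤ Nat.card A) : Comm A B := by
  by_cases hn : B ≤ normalizer (A : Set H)
  · exact hT.comm_of_normalized hA hB hTp hAT hBT hn
  obtain ⟨b, hb, hbn⟩ := SetLike.not_le_iff_exists.1 hn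
  set A' := cnj b A with hA'
  have hne : A' ≠ A := fun h => hbn (mem_normalizer_iff_map_conj_eq.2 h)
  have hb1 : b ≠ 1 := fun h => hne (by rw [hA', h, cnj_one])
  by_cases hrg : ∀ a ∈ A, ∀ v : V, dev a v ∈ fx V B
  · exact hT.comm_of_le hA hB hrg
  push Not at hrg
  obtain ⟨a, ha, v₀, hv₀⟩ := hrg
  set x := dev a v₀ with hx
  have hx0 : dev b x ≠ 0 := fun h0 => hv₀ ((hT.fx_eq hB hb hb1).2 h0)
  have htop := hT.fx_sup_top (hA.cnj b) hA hne (hconj b hb)
  have hxA' : x ∈ fx V A' :=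
    hT.dev_mem_fx hA (hA.cnj b) hne.symm (hconj b hb).symm ha v₀
  have hbx : b • x ∈ fx V A' := by
    rw [hA', smul_mem_fx_cnj]
    exact hA.quad hT.exp a ha v₀
  set R := (devHom V b).range with hR
  have hw : dev b x ∈ R ⊓ fx V A' := AddSubgroup.mem_inf.2 ⟨⟨x, rfl⟩, sub_mem hbx hxA'⟩
  have hsup : R ⊔ fx V A' = ⊤ := by
    refine eq_top_iff.2 fun u _ => ?_
    obtain ⟨u', hu', u₁, hu₁, rfl⟩ := AddSubgroup.mem_sup.1 (htop ▸ AddSubgroup.mem_top u)
    refine add_mem (AddSubgroup.mem_sup_right hu') ?_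
    have hbu : b • u₁ ∈ fx V A' := by rw [hA', smul_mem_fx_cnj]; exact hu₁
    have e : u₁ = b • u₁ - devHom V b u₁ := by simp [dev]
    rw [e]
    exact sub_mem (AddSubgroup.mem_sup_right hbu) (AddSubgroup.mem_sup_left ⟨u₁, rfl⟩)
  have h1 := card_sup_mul_inf R (fx V A')
  rw [hsup, AddSubgroup.card_top, ← (hA.cnj b).meas_eq, meas] at h1
  have h2 : Nat.card R = Nat.card A' * Nat.card ↥(R ⊓ fx V A') := by
    refine (Nat.eq_of_mul_eq_mul_right (Nat.card_pos (α := fx V A')) ?_).symm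
    rw [← h1]; ring
  have h3 : 1 < Nat.card ↥(R ⊓ fx V A') := by
    by_contra hle1
    push Not at hle1
    have h4 := AddSubgroup.eq_bot_of_card_le _ hle1
    rw [h4, AddSubgroup.mem_bot] at hw
    exact hx0 hw
  rw [hR, hT.card_range hB hb hb1, card_cnj] at h2
  have h5 : Nat.card A < Nat.card A * Nat.card ↥(R ⊓ fx V A') := lt_mul_right Nat.card_pos h3
  exact absurd hle (h2 ▸ h5).not_ge

/-- Two members in one `p`-subgroup commute. -/
theorem Tame.comm_members (hT : Tame p H V) {T : Subgroup H} (hTp : IsPGroup p T)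
    (hA : Mem p V A) (hAT : A ≤ T) (hB : Mem p V B) (hBT : B ≤ T) : Comm A B := by
  by_contra hAB
  set Q : Set ℕ := {n | ∃ A B : Subgroup H, Mem p V A ∧ A ≤ T ∧ Mem p V B ∧ B ≤ T ∧
    ¬ Comm A B ∧ Nat.card A = n} with hQ
  have hQne : Q.Nonempty := ⟨_, A, B, hA, hAT, hB, hBT, hAB, rfl⟩
  have hQfin : Q.Finite := (Set.finite_range fun A : Subgroup H => Nat.card A).subset
    fun n ⟨A, _, _, _, _, _, _, he⟩ => ⟨A, he⟩
  obtain ⟨q, hqQ, hqmax⟩ := Set.exists_max_image Q id hQfin hQne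
  have hequal : ∀ A B : Subgroup H, Mem p V A → A ≤ T → Mem p V B → B ≤ T →
      Nat.card A = q → Nat.card B = q → Comm A B := by
    intro A B hA hAT hB hBT hAq hBq
    by_contra hne
    let P : Set (Subgroup H) → Prop := fun S => (∀ D ∈ S, Mem p V D ∧ D ≤ T ∧ Nat.card D = q) ∧
      ∀ D ∈ S, ∀ D' ∈ S, Comm D D'
    have hP0 : P {A} := by
      refine ⟨?_, ?_⟩
      · rintro D rfl; exact ⟨hA, hAT, hAq⟩
      · rintro D rfl D' rfl; exact hA.elem.comm
    obtain ⟨S, hAS, hS⟩ := Finite.exists_le_maximal (p := P) hP0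
    have hAS' : A ∈ S := hAS rfl
    set E := sSup S with hE
    obtain ⟨hEel, hEm⟩ := meas_sSup_eq hT.bound (fun D hD => ⟨(hS.prop.1 D hD).1.elem,
      (hS.prop.1 D hD).1.meas_eq⟩) hS.prop.2
    have hins : ∀ D : Subgroup H, Mem p V D → D ≤ T → Nat.card D = q →
        (∀ D' ∈ S, Comm D D') → D ∈ S := by
      intro D h1 h2 h3 h4
      have hP1 : P (insert D S) := by
        refine ⟨?_, ?_⟩
        · rintro X (rfl | hX)
          · exact ⟨h1, h2, h3⟩
          · exact hS.prop.1 X hX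
        · rintro X (rfl | hX) Y (rfl | hY)
          · exact h1.elem.comm
          · exact h4 Y hY
          · exact (h4 X hX).symm
          · exact hS.prop.2 X hX Y hY
      exact hS.2 hP1 (Set.subset_insert D S) (Set.mem_insert D S)
    have hin : ∀ D : Subgroup H, Mem p V D → D ≤ T → Nat.card D = q → D ≤ E → D ∈ S :=
      fun D h1 h2 h3 h4 => hins D h1 h2 h3 fun D' hD' x hx y hy =>
        hEel.comm x (h4 hx) y (le_sSup hD' hy)
    set J := sSup {D : Subgroup H | Mem p V D ∧ D ≤ T ∧ Nat.card D = q} with hJ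
    have hBJ : B ≤ J := le_sSup ⟨hB, hBT, hBq⟩
    have hEJ : E ≤ J := sSup_le_sSup fun D hD => hS.prop.1 D hD
    have hJT : J ≤ T := sSup_le fun D hD => hD.2.1
    obtain ⟨D, hD, hDT, hDq, hDS, hDn⟩ : ∃ D : Subgroup H, Mem p V D ∧ D ≤ T ∧
        Nat.card D = q ∧ D ∉ S ∧ D ≤ normalizer (E : Set H) := by
      have hBS : B ∉ S := fun h => hne (hS.prop.2 A hAS' B h)
      by_cases hJn : J ≤ normalizer (E : Set H)
      · exact ⟨B, hB, hBT, hBq, hBS, hBJ.trans hJn⟩
      have hlt : J ⊓ normalizer (E : Set H) < J :=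
        lt_of_le_of_ne inf_le_left fun he => hJn (he ▸ inf_le_right)
      obtain ⟨g, hg, hgN⟩ := SetLike.exists_of_lt
        (ConjFunctor.lt_inf_normalizer (hTp.to_le hJT) hlt)
      have hgne : ∃ D ∈ S, cnj g D ∉ S := by
        by_contra! hall
        refine hgN ⟨hg.1, mem_normalizer_iff_map_conj_eq.2
          (Subgroup.eq_of_le_of_card_ge ?_ (card_cnj g E).ge)⟩
        rw [map_le_iff_le_comap]
        exact sSup_le fun D hD => map_le_iff_le_comap.1 (le_sSup (hall D hD))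
      obtain ⟨D₀, hD₀, hD₀g⟩ := hgne
      have h1 := hS.prop.1 D₀ hD₀
      refine ⟨cnj g D₀, h1.1.cnj g, ?_, (card_cnj g D₀).trans h1.2.2, hD₀g, ?_⟩
      · rintro _ ⟨y, hy, rfl⟩
        exact mul_mem (mul_mem (hJT hg.1) (h1.2.1 hy)) (inv_mem (hJT hg.1))
      · rintro _ ⟨y, hy, rfl⟩
        have hyN : y ∈ J ⊓ normalizer (E : Set H) :=
          ⟨le_sSup (show D₀ ∈ {D : Subgroup H | Mem p V D ∧ D ≤ T ∧ Nat.card D = q} from h1) hy,
            le_normalizer (le_sSup hD₀ hy)⟩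
        exact ((mem_normalizer_iff.1 hg.2 y).1 hyN).2
    refine hDS (hins D hD hDT hDq fun D' hD' => Comm.symm ?_)
    have h1 := hS.prop.1 D' hD'
    refine hT.comm_of_conj h1.1 hD hTp h1.2.1 hDT (fun b hb => ?_) (hDq.trans h1.2.2.symm).le
    refine hS.prop.2 _ (hin _ (h1.1.cnj b) ?_ ((card_cnj b D').trans h1.2.2) ?_) D' hD'
    · rintro _ ⟨y, hy, rfl⟩
      exact mul_mem (mul_mem (hDT hb) (h1.2.1 hy)) (inv_mem (hDT hb))
    · rintro _ ⟨y, hy, rfl⟩
      exact (mem_normalizer_iff.1 (hDn hb) y).1 (le_sSup hD' hy)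
  obtain ⟨A₁, B₁, hA₁, hA₁T, hB₁, hB₁T, hne, hA₁q⟩ := hqQ
  refine hne (hT.comm_of_conj hA₁ hB₁ hTp hA₁T hB₁T (fun b hb => ?_) ?_)
  · refine hequal _ _ (hA₁.cnj b) ?_ hA₁ hA₁T ((card_cnj b A₁).trans hA₁q) hA₁q
    rintro _ ⟨y, hy, rfl⟩
    exact mul_mem (mul_mem (hB₁T hb) (hA₁T hy)) (inv_mem (hB₁T hb))
  · rw [hA₁q]
    exact hqmax _ ⟨B₁, A₁, hB₁, hB₁T, hA₁, hA₁T, fun h => hne h.symm, rfl⟩

theorem Tame.memSup (hT : Tame p H V) {T : Subgroup H} (hTp : IsPGroup p T) :
    Elem p (memSup p V T) ∧ meas V (memSup p V T) = Nat.card V :=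
  meas_sSup_eq hT.bound (fun _ hD => ⟨hD.1.elem, hD.1.meas_eq⟩)
    fun _ hD _ hD' => hT.comm_members hTp hD.1 hD.2 hD'.1 hD'.2

theorem Tame.memSup_quad (hT : Tame p H V) {T : Subgroup H} (hTp : IsPGroup p T) :
    Quad V (FFMin.memSup p V T) := by
  intro e he v
  have key : FFMin.memSup p V T ≤
      { carrier := {g | g ∈ FFMin.memSup p V T ∧ ∀ v : V, dev g v ∈ fx V (FFMin.memSup p V T)}
        one_mem' := ⟨one_mem _, fun v => by rw [dev_one]; exact zero_mem _⟩
        mul_mem' := fun {x y} hx hy => ⟨mul_mem hx.1 hy.1, fun v => by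
          rw [dev_mul, hy.2 v x hx.1]; exact add_mem (hy.2 v) (hx.2 v)⟩
        inv_mem' := fun {x} hx => ⟨inv_mem hx.1, fun v => by
          rw [dev_inv]; exact neg_mem (hx.2 _)⟩ : Subgroup H } := by
    refine sSup_le fun D hD a ha => ⟨le_sSup hD ha, fun v g hg => ?_⟩
    have hle : FFMin.memSup p V T ≤ MulAction.stabilizer H (dev a v) := by
      refine sSup_le fun D' hD' b hb => MulAction.mem_stabilizer_iff.2 ?_
      by_cases hDD : D = D'
      · exact hD.1.quad hT.exp a ha v b (hDD ▸ hb)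
      · exact hT.dev_mem_fx hD.1 hD'.1 hDD (hT.comm_members hTp hD.1 hD.2 hD'.1 hD'.2) ha v b hb
    exact MulAction.mem_stabilizer_iff.1 (hle hg)
  exact (key he).2 v

end Cfsg.Agent.Lib.FFMin
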