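import Cfsg.Agent.Lib.FFMin.Bound

/-!
# Existence of partners

Either the overgroup reduction lifts a partner from a smaller pair, or all proper overgroups of the
subgroup generated by the members of a Sylow subgroup lie in one maximal subgroup and then there
is only one member, whose conjugates outside generate.
-/

set_option autoImplicit false
set_option linter.unusedSectionVars false

namespace Cfsg.Agent.Lib.FFMin

open Subgroup SL2Recog
open scoped Pointwise

universe u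

theorem map_cnj {G K : Type*} [Group G] [Group K] (f : G →* K) (l : G) (C : Subgroup G) :
    (cnj l C).map f = cnj (f l) (C.map f) := by
  rw [cnj, cnj, Subgroup.map_map, Subgroup.map_map]
  congr 1
  ext x
  simp

variable {H V : Type u} [Group H] [AddCommGroup V] [DistribMulAction H V] {p : ℕ}
  [Finite H] [Finite V] [FaithfulSMul H V] [Fact p.Prime]

/-- The reduced situation produced by `exists_reduced`. -/
structure Ctx (p : ℕ) (T : Sylow p H) (M : Subgroup H) (L : Subgroup H) (R : Sylow p L)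
    (W : AddSubgroup V) (hW : ∀ g ∈ L, ∀ w ∈ W, g • w ∈ W) : Prop where
  main : Main p ↥(resAct L W hW).range W
  moved : Moved p ↥(resAct L W hW).range W
  hyp : Hyp p ↥(resAct L W hW).range
  umax : UMax p ((M.subgroupOf L).map (resMap L W hW))
  leM : (T : Subgroup H) ≤ M
  leT : (R : Subgroup L).map L.subtype ≤ T
  mem : ∀ D : Subgroup H, Mem p V D → D ≤ T → D ≤ (R : Subgroup L).map L.subtype

variable {T : Sylow p H} {M L : Subgroup H} {R : Sylow p L} {W : AddSubgroup V}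
  {hW : ∀ g ∈ L, ∀ w ∈ W, g • w ∈ W}

theorem Ctx.exists_lift (hc : Ctx p T M L R W hW) {D : Subgroup H} (hD : Mem p V D) (hDT : D ≤ T) :
    ∃ D' : Subgroup L, D' ≤ R ∧ D'.map L.subtype = D := by
  refine ⟨D.subgroupOf L, fun x hx => ?_,
    map_subgroupOf_eq_of_le ((hc.mem D hD hDT).trans (map_subtype_le _))⟩
  obtain ⟨r, hr, he⟩ := hc.mem D hD hDT (show (x : H) ∈ D from hx)
  exact (Subtype.ext he : r = x) ▸ hr

theorem Ctx.tame (hc : Ctx p T M L R W hW) (hexp : ∀ v : V, p • v = 0) :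
    Tame p ↥(resAct L W hW).range W :=
  hc.main.tame (fun w => Subtype.ext (hexp w)) hc.moved

theorem Ctx.le_T (hc : Ctx p T M L R W hW) {C : Subgroup L} (hCR : C ≤ R) :
    C.map L.subtype ≤ T :=
  (map_mono hCR).trans hc.leT

/-- Members inside the kernel are orthogonal to conjugates of members outside. -/
theorem orth_ker (ht : Tame p H V) (hbI : Bound p ↥(resAct L W hW).range W) {C D : Subgroup L}
    (hC : Mem p V (C.map L.subtype)) (hCK : ¬ C ≤ (resMap L W hW).ker)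
    (hD : Mem p V (D.map L.subtype)) (hDK : D ≤ (resMap L W hW).ker) (l : L)
    {d : H} (hd : d ∈ D.map L.subtype) (v : V) :
    dev d v ∈ fx V (cnj (l : H) (C.map L.subtype)) := by
  have hmap : (cnj l C).map L.subtype = cnj (l : H) (C.map L.subtype) := map_cnj L.subtype l C
  have hB : Mem p V ((cnj l C).map L.subtype) := hmap ▸ hC.cnj _
  have hBK : ¬ cnj l C ≤ (resMap L W hW).ker := fun hle => hCK fun c hc => by
    have h1 := hle (mem_map_of_mem _ hc)
    have h2 := (MonoidHom.normal_ker (resMap L W hW)).conj_mem _ h1 l⁻¹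
    simpa [mul_assoc] using h2
  obtain ⟨-, hsum, -⟩ := mem_resMap ht.bound hbI hB hBK
  have hcomm : Comm ((cnj l C).map L.subtype) (D.map L.subtype) := by
    refine ht.comm_of_le hB hD fun b hb v => ?_
    obtain ⟨w, hw, x, hx, rfl⟩ := AddSubgroup.mem_sup.1 (hsum ▸ AddSubgroup.mem_top v)
    rw [dev_add, dev_eq_zero hb hx, add_zero]
    obtain ⟨b', -, rfl⟩ := hb
    have hbw : dev (b' : H) w ∈ W := sub_mem (hW _ b'.2 w hw) hw
    rintro _ ⟨k, hk, rfl⟩
    exact (mem_ker_resMap k).1 (hDK hk) _ hbw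
  rw [← hmap]
  refine ht.dev_mem_fx hD hB (fun he => hBK ?_) hcomm.symm hd v
  exact (map_injective L.subtype_injective he).ge.trans hDK

/-- The partner condition on the restriction gives the one on `V`. -/
theorem opp_lift (ht : Tame p H V) (hbI : Bound p ↥(resAct L W hW).range W) {C : Subgroup L}
    (hC : Mem p V (C.map L.subtype)) (hCK : ¬ C ≤ (resMap L W hW).ker) {l : L}
    (hopp : ∀ a ∈ C.map (resMap L W hW), a ≠ 1 → ∀ w : W,
      dev a w ∈ fx W (cnj (resMap L W hW l) (C.map (resMap L W hW))) →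
        w ∈ fx W (C.map (resMap L W hW)))
    {a : H} (ha : a ∈ C.map L.subtype) (ha1 : a ≠ 1) {v : V}
    (hv : dev a v ∈ fx V (cnj (l : H) (C.map L.subtype))) : v ∈ fx V (C.map L.subtype) := by
  obtain ⟨hdisj, hsum, -⟩ := mem_resMap ht.bound hbI hC hCK
  obtain ⟨w, hw, x, hx, rfl⟩ := AddSubgroup.mem_sup.1 (hsum ▸ AddSubgroup.mem_top v)
  rw [dev_add, dev_eq_zero ha hx, add_zero] at hv
  obtain ⟨c, hc, rfl⟩ := ha
  have hc1 : resMap L W hW c ≠ 1 := fun he => ha1 (by
    have h1 : c ∈ C ⊓ (resMap L W hW).ker := ⟨hc, he⟩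
    rw [hdisj, mem_bot] at h1
    rw [h1, map_one])
  refine add_mem (mem_fx_resMap.1 (hopp _ (mem_map_of_mem _ hc) hc1 ⟨w, hw⟩ ?_)) hx
  rw [← map_cnj, mem_fx_resMap, map_cnj]
  exact hv

/-- A member of `T` outside the kernel is determined by its restriction. -/
theorem Ctx.eq_of_image (hc : Ctx p T M L R W hW) (ht : Tame p H V) {C D : Subgroup L}
    (hC : Mem p V (C.map L.subtype)) (hCR : C ≤ R) (hCK : ¬ C ≤ (resMap L W hW).ker)
    (hD : Mem p V (D.map L.subtype)) (hDR : D ≤ R) (hDK : ¬ D ≤ (resMap L W hW).ker)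
    (heq : D.map (resMap L W hW) = C.map (resMap L W hW)) {l : L}
    (hopp : ∀ a ∈ C.map (resMap L W hW), a ≠ 1 → ∀ w : W,
      dev a w ∈ fx W (cnj (resMap L W hW l) (C.map (resMap L W hW))) →
        w ∈ fx W (C.map (resMap L W hW))) : D = C := by
  by_contra hne
  have hne' : C.map L.subtype ≠ D.map L.subtype := fun he =>
    hne (map_injective L.subtype_injective he).symm
  have hbI := hc.main.1
  have hcomm := ht.comm_members T.2 hC (hc.le_T hCR) hD (hc.le_T hDR)
  have hG := hC.elem.sup hD.elem hcomm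
  have hGm := meas_sup_eq ht.bound hC.elem hD.elem hcomm hC.meas_eq hD.meas_eq
  rw [← Subgroup.map_sup] at hG hGm
  obtain ⟨hGK, -, -⟩ := offender_ker ht.bound hbI hG hGm
  set G₀ := ((C ⊔ D) ⊓ (resMap L W hW).ker).map L.subtype with hG₀
  obtain ⟨hdisjD, -, -⟩ := mem_resMap ht.bound hbI hD hDK
  obtain ⟨d, hd, hd1⟩ : ∃ d ∈ D, d ≠ 1 := by
    by_contra! h
    exact hD.ne_bot (by rw [show D = ⊥ from (eq_bot_iff_forall D).2 h, Subgroup.map_bot])
  obtain ⟨c, hcC, hcd⟩ := heq ▸ mem_map_of_mem (resMap L W hW) hd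
  have hG0ne : G₀ ≠ ⊥ := fun he => by
    have h1 : c⁻¹ * d ∈ (C ⊔ D) ⊓ (resMap L W hW).ker :=
      ⟨mul_mem (mem_sup_left (inv_mem hcC)) (mem_sup_right hd), MonoidHom.mem_ker.2 (by
        rw [map_mul, map_inv, hcd, inv_mul_cancel])⟩
    rw [(map_eq_bot_iff_of_injective _ L.subtype_injective).1 he, mem_bot, inv_mul_eq_one] at h1
    have h2 : (d : H) ∈ C.map L.subtype ⊓ D.map L.subtype :=
      ⟨mem_map_of_mem L.subtype (h1 ▸ hcC), mem_map_of_mem L.subtype hd⟩
    rw [ht.inf_eq_bot hC hD hne', mem_bot] at h2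
    exact hd1 (Subtype.ext h2)
  obtain ⟨D₃, hD₃G, hD₃⟩ := exists_mem (hG.mono (map_mono inf_le_left)) hG0ne hGK ht.bound
  have hD₃L : (D₃.subgroupOf L).map L.subtype = D₃ :=
    map_subgroupOf_eq_of_le (hD₃G.trans (map_subtype_le _))
  have hD₃K : D₃.subgroupOf L ≤ (resMap L W hW).ker := fun x hx => by
    obtain ⟨y, hy, he⟩ := hD₃G (show (x : H) ∈ D₃ from hx)
    exact (Subtype.ext he : y = x) ▸ hy.2
  obtain ⟨e, he, he1⟩ : ∃ e ∈ D₃, e ≠ 1 := by
    by_contra! h
    exact hD₃.ne_bot ((eq_bot_iff_forall D₃).2 h)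
  obtain ⟨y, hy, hye⟩ := hD₃G he
  have hn : C.map L.subtype ≤ normalizer (D.map L.subtype : Set H) := fun x hx =>
    centralizer_le_normalizer _ (mem_centralizer_iff.2 fun z hz => (hcomm x hx z hz).symm)
  have hyG : e ∈ C.map L.subtype ⊔ D.map L.subtype := by
    rw [← Subgroup.map_sup, ← hye]
    exact mem_map_of_mem _ hy.1
  rw [← SetLike.mem_coe, coe_mul_of_left_le_normalizer_right _ _ hn] at hyG
  obtain ⟨a, ha, d', hd', had⟩ := Set.mem_mul.1 hyG
  have ha1 : a ≠ 1 := fun h1 => he1 (by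
    obtain ⟨d'', hd'', rfl⟩ := hd'
    rw [h1, one_mul, ← hye] at had
    have h2 : d'' ∈ D ⊓ (resMap L W hW).ker := ⟨hd'', by
      rw [show d'' = y from Subtype.ext had]; exact hy.2⟩
    rw [hdisjD, mem_bot] at h2
    rw [← hye, ← had, h2, map_one])
  have hle : fx V (D.map L.subtype) ≤ fx V (C.map L.subtype) := by
    intro v hv
    refine opp_lift ht hbI hC hCK hopp ha ha1 ?_
    have h1 : dev e v = dev a v := by rw [← had, dev, dev, mul_smul, hv _ hd']
    rw [← h1]
    exact orth_ker ht hbI hC hCK (hD₃L.symm ▸ hD₃) hD₃K l (hD₃L.symm ▸ he) v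
  have htop := ht.fx_sup_top hC hD hne' hcomm
  rw [sup_eq_left.2 hle] at htop
  exact hC.ne_bot ((eq_bot_iff_forall _).2 fun x hx => eq_one_of_dev fun v : V =>
    dev_eq_zero hx (htop ▸ AddSubgroup.mem_top v))

/-- Lifting partners. -/
theorem Ctx.partner_lift (hc : Ctx p T M L R W hW) (ht : Tame p H V) {C : Subgroup L}
    (hC : Mem p V (C.map L.subtype)) (hCR : C ≤ R) (hCK : ¬ C ≤ (resMap L W hW).ker) {l : L}
    (hl : IsPartner p W ((R : Subgroup L).map (resMap L W hW))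
      ((M.subgroupOf L).map (resMap L W hW)) (C.map (resMap L W hW)) (resMap L W hW l)) :
    IsPartner p V T M (C.map L.subtype) (l : H) := by
  have hbI := hc.main.1
  refine ⟨fun hle => hl.not_le ?_, fun a ha ha1 v hv => opp_lift ht hbI hC hCK hl.opp ha ha1 hv,
    fun D hD hDT hne d hd v => ?_⟩
  · rw [← map_cnj]
    refine map_mono ?_
    rintro x hx
    rw [← show L.subtype l = (l : H) from rfl, ← map_cnj] at hle
    exact hle (mem_map_of_mem _ hx)
  obtain ⟨D', hD'R, rfl⟩ := hc.exists_lift hD hDT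
  by_cases hDK : D' ≤ (resMap L W hW).ker
  · exact orth_ker ht hbI hC hCK hD hDK l hd v
  obtain ⟨-, hsum, hDI⟩ := mem_resMap ht.bound hbI hD hDK
  have hne' : D'.map (resMap L W hW) ≠ C.map (resMap L W hW) := fun he =>
    hne (by rw [hc.eq_of_image ht hC hCR hCK hD hD'R hDK he hl.opp])
  obtain ⟨w, hw, x, hx, rfl⟩ := AddSubgroup.mem_sup.1 (hsum ▸ AddSubgroup.mem_top v)
  rw [dev_add, dev_eq_zero hd hx, add_zero]
  obtain ⟨d, hd', rfl⟩ := hd
  have h1 := hl.orth _ hDI (map_mono hD'R) hne' _ (mem_map_of_mem _ hd') ⟨w, hw⟩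
  rw [← map_cnj, mem_fx_resMap, map_cnj] at h1
  exact h1

/-- The image of a member outside the kernel has a partner. -/
theorem Ctx.exists_partner_image (hc : Ctx p T M L R W hW) (ht : Tame p H V) {C : Subgroup L}
    (hC : Mem p V (C.map L.subtype)) (hCR : C ≤ R) (hCK : ¬ C ≤ (resMap L W hW).ker) :
    ∃ g, IsPartner p W ((R : Subgroup L).map (resMap L W hW))
      ((M.subgroupOf L).map (resMap L W hW)) (C.map (resMap L W hW)) g := by
  exact (hc.main.2 hc.moved).2.1 (R.mapSurjective resMap_surjective) _ hc.umax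
    (map_mono fun x hx => hc.leM (hc.leT (mem_map_of_mem _ hx))) _
    (mem_resMap ht.bound hc.main.1 hC hCK).2.2 (map_mono hCR)

/-! ### The case of a single maximal overgroup -/

theorem exists_cnj_not_le (h : Hyp p H) (hM : UMax p M) {P : Subgroup H} (hP : IsPGroup p P)
    (hP0 : P ≠ ⊥) : ∃ g : H, ¬ cnj g P ≤ M := by
  by_contra! hall
  exact hP0 (h.eq_bot_of_le hM (N := M.normalCore) M.normalCore_le
    (fun a ha b => hall b (mem_map_of_mem _ ha)) hP)

/-- Some member has few fixed vectors in common with a conjugate of `E`. -/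
theorem exists_separated (h : Hyp p H) (hM : UMax p M) {A E : Subgroup H}
    (hA : A ∈ members p V (T : Subgroup H))
    (hmax : ∀ X : Subgroup H, X ≠ ⊤ → E ≤ X → X ≤ M) :
    ∃ A₁ ∈ members p V (T : Subgroup H),
      Nat.card (fx V E) ≤ Nat.card A₁ * Nat.card (fix0 H V) := by
  obtain ⟨A₁, hA₁, x, hx⟩ : ∃ A₁ ∈ members p V (T : Subgroup H), ∃ x : H,
      fx V A₁ ⊓ fx V (cnj x E) ≤ fix0 H V := by
    by_contra! hall
    obtain ⟨g, hg⟩ := exists_cnj_not_le h hM hA.1.elem.isPGroup hA.1.ne_bot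
    obtain ⟨v, hv, hv0⟩ := SetLike.not_le_iff_exists.1 (hall A hA g⁻¹)
    have hne : MulAction.stabilizer H v ≠ ⊤ := fun he => hv0 fun y _ =>
      MulAction.mem_stabilizer_iff.1 (he ▸ mem_top y)
    have hle := hmax (cnj (g⁻¹)⁻¹ (MulAction.stabilizer H v)) (cnj_ne_top hne) (by
      have := cnj_mono (g⁻¹)⁻¹ (le_stab.2 (AddSubgroup.mem_inf.1 hv).2)
      rwa [cnj_cnj, inv_mul_cancel, cnj_one] at this)
    rw [inv_inv] at hle
    exact hg ((cnj_mono g (le_stab.2 (AddSubgroup.mem_inf.1 hv).1)).trans hle)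
  refine ⟨A₁, hA₁, Nat.le_of_mul_le_mul_left ?_ (Nat.card_pos (α := fx V A₁))⟩
  have h1 := card_mul_le (le_top : fx V A₁ ≤ ⊤) (le_top : fx V (cnj x E) ≤ ⊤)
  rw [AddSubgroup.card_top, card_fx_cnj] at h1
  refine h1.trans ((Nat.mul_le_mul_left _ (AddSubgroup.card_le_of_le hx)).trans_eq ?_)
  rw [← hA₁.1.meas_eq, meas]
  ring

/-- An offender containing all members of `T` whose proper overgroups lie in `M` is a member. -/
theorem mem_of_max (hB : Below.{u} p (Nat.card H + Nat.card V)) (hexp : ∀ v : V, p • v = 0)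
    (h : Hyp p H) (hz : Moved p H V) (hM : UMax p M) (hTM : (T : Subgroup H) ≤ M)
    {A E : Subgroup H} (hA : A ∈ members p V (T : Subgroup H)) (hET : E ≤ T) (hE : Elem p E)
    (hm : meas V E = Nat.card V) (hq : Quad V E)
    (hmem : ∀ D ∈ members p V (T : Subgroup H), D ≤ E)
    (hmax : ∀ X : Subgroup H, X ≠ ⊤ → E ≤ X → X ≤ M) : Mem p V E := by
  obtain ⟨A₁, hA₁, hcard⟩ := exists_separated h hM hA hmax
  obtain ⟨z, hzT, hzm⟩ := hz.forall T
  obtain ⟨g, hg⟩ := exists_cnj_not_le h hM hA₁.1.elem.isPGroup hA₁.1.ne_bot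
  have htop : E ⊔ cnj g A₁ = ⊤ := by
    by_contra hne
    exact hg (le_sup_right.trans (hmax _ hne le_sup_left))
  set S := fx V E ⊔ fx V (cnj g E) with hS
  have hinvE : E ≤ fxTo S := fun e he v => AddSubgroup.mem_sup_left (hq e he v)
  have hinvB : cnj g A₁ ≤ fxTo S := fun b hb v =>
    AddSubgroup.mem_sup_right ((hq.cnj g) b (cnj_mono g (hmem A₁ hA₁) hb) v)
  have hinv : ∀ x : H, ∀ v ∈ S, x • v ∈ S := fun x v hv => by
    have hx : x ∈ fxTo S := (sup_le hinvE hinvB) (htop ▸ mem_top x)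
    rw [smul_eq]
    exact add_mem hv (hx v)
  have hStop := eq_top_of_invariant hB hexp h hM hTM hzT hzm hinv
    (AddSubgroup.mem_sup_left fun e he => hzT e (hET he)) hE hm le_sup_left
  have h1 := card_sup_mul_inf (fx V E) (fx V (cnj g E))
  rw [← hS, hStop, AddSubgroup.card_top, card_fx_cnj] at h1
  have h2 : Nat.card V * Nat.card (fix0 H V) ≤ Nat.card (fx V E) * Nat.card (fx V E) :=
    h1 ▸ Nat.mul_le_mul_left _ (AddSubgroup.card_le_of_le
      (le_inf (fx_anti le_top) (fx_anti le_top)))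
  have h3 : Nat.card E ≤ Nat.card A₁ := by
    refine Nat.le_of_mul_le_mul_right ?_
      (Nat.mul_pos (Nat.card_pos (α := fx V E)) (Nat.card_pos (α := fix0 H V)))
    calc Nat.card E * (Nat.card (fx V E) * Nat.card (fix0 H V))
        = Nat.card V * Nat.card (fix0 H V) := by rw [← hm, meas]; ring
      _ ≤ Nat.card (fx V E) * Nat.card (fx V E) := h2
      _ ≤ Nat.card (fx V E) * (Nat.card A₁ * Nat.card (fix0 H V)) :=
          Nat.mul_le_mul_left _ hcard
      _ = _ := by ring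
  rw [← eq_of_le_of_card_ge (hmem A₁ hA₁) h3]
  exact hA₁.1

theorem members_eq {T' : Sylow p H} (hTM : (T : Subgroup H) ≤ M) (hT'M : (T' : Subgroup H) ≤ M)
    (hle : memSup p V (T : Subgroup H) ≤ T') {D : Subgroup H} (hD : Mem p V D) :
    D ≤ T' ↔ D ≤ T := by
  obtain ⟨m, -, hm⟩ := exists_conj_mem hTM hT'M
  have h1 : memSup p V (T' : Subgroup H) ≤ cnj m (memSup p V (T : Subgroup H)) := by
    refine sSup_le fun F hF => ?_
    have h2 : cnj m⁻¹ F ≤ memSup p V (T : Subgroup H) :=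
      le_sSup ⟨hF.1.cnj _, cnj_le_cnj (hm.symm ▸ hF.2)⟩
    have h3 := cnj_mono m h2
    rwa [cnj_cnj, mul_inv_cancel, cnj_one] at h3
  have h2 : memSup p V (T : Subgroup H) ≤ memSup p V (T' : Subgroup H) :=
    sSup_le fun F hF => le_sSup ⟨hF.1, (le_sSup (show F ∈ members p V _ from hF)).trans hle⟩
  have heq := eq_of_le_of_card_ge h2 ((card_le_of_le h1).trans (card_cnj _ _).le)
  refine ⟨fun hDT => ?_, fun hDT => (le_sSup (show D ∈ members p V _ from ⟨hD, hDT⟩)).trans hle⟩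
  exact ((le_sSup (show D ∈ members p V _ from ⟨hD, hDT⟩)).trans heq.ge).trans
    (sSup_le fun F hF => hF.2)

theorem partner_of_below (hB : Below.{u} p (Nat.card H + Nat.card V)) (h : Hyp p H)
    (hz : Moved p H V) (ht : Tame p H V) : Partner p H V := by
  intro T M hM hTM A hA hAT
  suffices hex : ∃ A₁ ∈ members p V (T : Subgroup H), ∃ g, IsPartner p V T M A₁ g by
    obtain ⟨A₁, hA₁, g, hg⟩ := hex
    obtain ⟨t, htT, rfl⟩ := hg.orbit ht h hM hTM hA₁.1 hA₁.2 hA hAT
    exact ⟨_, hg.conj htT hTM⟩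
  set E := memSup p V (T : Subgroup H) with hE
  have hAE : A ≤ E := le_sSup ⟨hA, hAT⟩
  have hET : E ≤ T := sSup_le fun D hD => hD.2
  by_cases hmax : ∀ X : Subgroup H, X ≠ ⊤ → E ≤ X → X ≤ M
  · have hEmem := mem_of_max hB ht.exp h hz hM hTM (E := E) ⟨hA, hAT⟩ hET (ht.memSup T.2).1
      (ht.memSup T.2).2 (ht.memSup_quad T.2) (fun D hD => le_sSup hD) hmax
    have hall : ∀ D ∈ members p V (T : Subgroup H), D = E := fun D hD => by
      by_contra hne
      exact (hEmem.strict D (le_sSup hD) hD.1.ne_bot hne).ne hD.1.meas_eq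
    have hgen : ∀ x : H, x ∉ M → E ⊔ cnj x E = ⊤ := by
      intro x hx
      by_contra hne
      obtain ⟨T', hxT', hT'M⟩ := exists_sylow_le hM.2.1 (hEmem.elem.cnj x).isPGroup
        (le_sup_right.trans (hmax _ hne le_sup_left))
      obtain ⟨m, hmM, hm⟩ := exists_conj_mem hTM hT'M
      have he := hall _ ⟨(hEmem.cnj x).cnj m⁻¹, cnj_le_cnj (hm.symm ▸ hxT')⟩
      rw [cnj_cnj] at he
      have hN : normalizer (E : Set H) ≠ ⊤ := fun htop =>
        hEmem.ne_bot (h.core E (normalizer_eq_top_iff.1 htop) hEmem.elem.isPGroup)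
      have h1 : m⁻¹ * x ∈ M :=
        hmax _ hN le_normalizer (mem_normalizer_iff_map_conj_eq.2 he)
      exact hx (by simpa using mul_mem hmM h1)
    obtain ⟨x, hx⟩ : ∃ x, x ∉ M := by
      by_contra! hall'
      exact hM.1 ((eq_top_iff' M).2 hall')
    have hbase := base ht.exp hz hEmem.elem hTM hM.1 hET hgen hEmem.meas_eq.ge
      fun B h1 h2 h3 => hEmem.meas_eq ▸ hEmem.strict B h1 h2 h3
    refine ⟨E, ⟨hEmem, hET⟩, x, fun hle => ?_, hbase.2.2 x hx,
      fun D hD hDT hne => absurd (hall D ⟨hD, hDT⟩) hne⟩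
    exact hM.1 (top_unique ((hgen x hx).ge.trans (sup_le (hET.trans hTM) hle)))
  · push Not at hmax
    obtain ⟨X, hX, hEX, hXM⟩ := hmax
    obtain ⟨L, R, T', W, hW, hL, hER, hRT', hT'M, -, hh, hum, hmov, hcl⟩ := exists_reduced h hz
      (goodClass_mem hA hAE) hM hX hXM (T.2.to_le hET) hEX (hET.trans hTM)
    have hiff : ∀ {D : Subgroup H}, Mem p V D → (D ≤ T' ↔ D ≤ T) :=
      fun hD => members_eq hTM hT'M (hER.trans hRT') hD
    have hc : Ctx p T' M L R W hW := ⟨hB.image ht.exp (Or.inl hL) hh, hmov, hh, hum, hT'M, hRT',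
      fun D hD hDT => (le_sSup (show D ∈ members p V _ from ⟨hD, (hiff hD).1 hDT⟩)).trans hER⟩
    obtain ⟨C, hCR, hC, hCK⟩ := hcl _ (goodClass_mem hA hAE)
    obtain ⟨g, hg⟩ := hc.exists_partner_image ht hC hCR hCK
    obtain ⟨l, rfl⟩ := resMap_surjective g
    have hp := hc.partner_lift ht hC hCR hCK hg
    exact ⟨_, ⟨hC, (hiff hC).1 (hc.le_T hCR)⟩, (l : H), hp.not_le, hp.opp,
      fun D hD hDT => hp.orth D hD ((hiff hD).2 hDT)⟩

end Cfsg.Agent.Lib.FFMin
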