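import Cfsg.Agent.Lib.FFMin.Members

/-!
# Restriction to invariant submodules and the overgroup reduction

If a proper subgroup `X` outside the unique maximal subgroup `M` contains a `p`-subgroup
`R₀ ≤ M` with a member of an invariant class `𝒞`, then there are `L`, a Sylow subgroup `R ⊇ R₀` of
`L` and an `L`-invariant submodule on which the image of `L` again satisfies the hypothesis and on
which some member of `𝒞` inside `R` acts nontrivially.
-/

set_option autoImplicit false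
set_option linter.unusedSectionVars false

namespace Cfsg.Agent.Lib.FFMin

open Subgroup SL2Recog
open scoped Pointwise

variable {H V : Type*} [Group H] [AddCommGroup V] [DistribMulAction H V] {p : ℕ}

/-- The units of the endomorphism monoid given by an action on an invariant subgroup. -/
def resAct (L : Subgroup H) (W : AddSubgroup V) (hW : ∀ g ∈ L, ∀ w ∈ W, g • w ∈ W) :
    L →* (AddMonoid.End W)ˣ :=
  MonoidHom.toHomUnits
    { toFun := fun g => AddMonoidHom.mk' (fun w => (⟨(g : H) • (w : V), hW _ g.2 _ w.2⟩ : W))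
        fun v w => Subtype.ext (smul_add _ _ _)
      map_one' := AddMonoidHom.ext fun w => Subtype.ext (one_smul H (w : V))
      map_mul' := fun g g' => AddMonoidHom.ext fun w => Subtype.ext (mul_smul (g : H) g' (w : V)) }

/-- The restriction as a map onto its image. -/
abbrev resMap (L : Subgroup H) (W : AddSubgroup V) (hW : ∀ g ∈ L, ∀ w ∈ W, g • w ∈ W) :
    L →* ↥(resAct L W hW).range :=
  (resAct L W hW).rangeRestrict

variable {L : Subgroup H} {W : AddSubgroup V} {hW : ∀ g ∈ L, ∀ w ∈ W, g • w ∈ W}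

theorem resMap_smul (g : L) (w : W) : ((resMap L W hW g • w : W) : V) = (g : H) • (w : V) := rfl

theorem resMap_dev (g : L) (w : W) :
    ((dev (resMap L W hW g) w : W) : V) = dev (g : H) (w : V) := rfl

theorem resMap_surjective : Function.Surjective (resMap L W hW) :=
  (resAct L W hW).rangeRestrict_surjective

theorem mem_ker_resMap (g : L) :
    g ∈ (resMap L W hW).ker ↔ ∀ w ∈ W, (g : H) • w = w := by
  rw [resMap, MonoidHom.ker_rangeRestrict, MonoidHom.mem_ker]
  constructor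
  · intro h w hw
    have h1 : ((resAct L W hW g • (⟨w, hw⟩ : W) : W) : V) = (g : H) • w := rfl
    rw [h, one_smul] at h1
    exact h1.symm
  · intro h
    refine eq_of_smul_eq_smul fun w : W => ?_
    rw [one_smul]
    exact Subtype.ext (h w w.2)

theorem mem_fx_resMap {A : Subgroup L} {w : W} :
    w ∈ fx W (A.map (resMap L W hW)) ↔ (w : V) ∈ fx V (A.map L.subtype) := by
  constructor
  · rintro h _ ⟨a, ha, rfl⟩
    exact congrArg Subtype.val (h _ (mem_map_of_mem _ ha))
  · rintro h _ ⟨a, ha, rfl⟩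
    exact Subtype.ext (h _ (mem_map_of_mem _ ha))

theorem card_fx_resMap (A : Subgroup L) :
    Nat.card (fx W (A.map (resMap L W hW))) = Nat.card ↥(W ⊓ fx V (A.map L.subtype)) :=
  Nat.card_congr
    ⟨fun w => ⟨(w : W), AddSubgroup.mem_inf.2 ⟨(w : W).2, mem_fx_resMap.1 w.2⟩⟩,
      fun v => ⟨⟨v, (AddSubgroup.mem_inf.1 v.2).1⟩,
        mem_fx_resMap.2 (AddSubgroup.mem_inf.1 v.2).2⟩,
      fun _ => rfl, fun _ => rfl⟩

theorem elem_map {K : Type*} [Group K] {A : Subgroup L} (hA : Elem p (A.map L.subtype))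
    (f : L →* K) : Elem p (A.map f) := by
  refine ⟨?_, ?_⟩
  · rintro _ ⟨a, ha, rfl⟩ _ ⟨b, hb, rfl⟩
    rw [← map_mul, ← map_mul]
    exact congrArg f (Subtype.ext (hA.comm _ (mem_map_of_mem _ ha) _ (mem_map_of_mem _ hb)))
  · rintro _ ⟨a, ha, rfl⟩
    rw [← map_pow]
    have : a ^ p = 1 := Subtype.ext (hA.pow _ (mem_map_of_mem _ ha))
    rw [this, map_one]

theorem quad_map {A : Subgroup L} (hA : Quad V (A.map L.subtype)) :
    Quad W (A.map (resMap L W hW)) := by
  rintro _ ⟨a, ha, rfl⟩ w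
  exact mem_fx_resMap.2 (hA _ (mem_map_of_mem _ ha) w)

section

variable [Finite H] [Finite V]

theorem card_map_mul (A : Subgroup L) {K : Type*} [Group K] (f : L →* K) :
    Nat.card A = Nat.card (A.map f) * Nat.card ↥(A ⊓ f.ker) := by
  set g := f.comp A.subtype with hg
  have hr : g.range = A.map f := by
    rw [hg, MonoidHom.range_comp, Subgroup.range_subtype]
  have hk : g.ker = (A ⊓ f.ker).subgroupOf A := by
    ext x
    exact ⟨fun hx => mem_subgroupOf.2 ⟨x.2, hx⟩, fun hx => (mem_subgroupOf.1 hx).2⟩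
  rw [card_eq_card_quotient_mul_card_subgroup g.ker,
    Nat.card_congr (QuotientGroup.quotientKerEquivRange g).toEquiv,
    Nat.card_congr (MulEquiv.subgroupCongr hr).toEquiv,
    Nat.card_congr (MulEquiv.subgroupCongr hk).toEquiv,
    Nat.card_congr (subgroupOfEquivOfLe (inf_le_left : A ⊓ f.ker ≤ A)).toEquiv]

/-- Passing to the kernel of the restriction does not decrease the measure. -/
theorem meas_le_ker (hb : Bound p ↥(resAct L W hW).range W) {A : Subgroup L}
    (hA : Elem p (A.map L.subtype)) :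
    meas V (A.map L.subtype) ≤ meas V ((A ⊓ (resMap L W hW).ker).map L.subtype) := by
  set D := A ⊓ (resMap L W hW).ker with hD
  have h1 := hb _ (elem_map hA (resMap L W hW))
  rw [meas, card_fx_resMap] at h1
  have hWD : W ≤ fx V (D.map L.subtype) := by
    rintro w hw _ ⟨d, hd, rfl⟩
    exact (mem_ker_resMap d).1 hd.2 w hw
  have h2 := card_mul_le hWD (fx_anti (map_mono (inf_le_left : D ≤ A)) :
    fx V (A.map L.subtype) ≤ fx V (D.map L.subtype))
  rw [meas, meas, card_map_of_injective L.subtype_injective,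
    card_map_of_injective L.subtype_injective, card_map_mul A (resMap L W hW)]
  rw [mul_comm (Nat.card (A.map (resMap L W hW))), mul_assoc]
  refine Nat.mul_le_mul_left _ ?_
  refine Nat.le_of_mul_le_mul_right ?_ (Nat.card_pos (α := W))
  calc Nat.card (A.map (resMap L W hW)) * Nat.card (fx V (A.map L.subtype)) * Nat.card W
      = Nat.card (A.map (resMap L W hW)) * (Nat.card W * Nat.card (fx V (A.map L.subtype))) := by
        ring
    _ ≤ Nat.card (A.map (resMap L W hW)) *
        (Nat.card (fx V (D.map L.subtype)) * Nat.card ↥(W ⊓ fx V (A.map L.subtype))) :=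
        Nat.mul_le_mul_left _ h2
    _ = Nat.card (fx V (D.map L.subtype)) * (Nat.card (A.map (resMap L W hW)) *
        Nat.card ↥(W ⊓ fx V (A.map L.subtype))) := by ring
    _ ≤ Nat.card (fx V (D.map L.subtype)) * Nat.card W := Nat.mul_le_mul_left _ h1

/-- An offender is an offender modulo its part in the kernel. -/
theorem offender_ker (hbV : Bound p H V) (hb : Bound p ↥(resAct L W hW).range W) {A : Subgroup L}
    (hA : Elem p (A.map L.subtype)) (hm : meas V (A.map L.subtype) = Nat.card V) :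
    meas V ((A ⊓ (resMap L W hW).ker).map L.subtype) = Nat.card V ∧
      fx V ((A ⊓ (resMap L W hW).ker).map L.subtype) = W ⊔ fx V (A.map L.subtype) ∧
      meas W (A.map (resMap L W hW)) = Nat.card W := by
  set D := A ⊓ (resMap L W hW).ker with hD
  have hDel : Elem p (D.map L.subtype) := hA.mono (map_mono inf_le_left)
  have hmD : meas V (D.map L.subtype) = Nat.card V :=
    le_antisymm (hbV _ hDel) (hm ▸ meas_le_ker hb hA)
  have hW0 : W ⊔ fx V (A.map L.subtype) ≤ fx V (D.map L.subtype) := by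
    refine sup_le ?_ (fx_anti (map_mono inf_le_left))
    rintro w hw _ ⟨d, hd, rfl⟩
    exact (mem_ker_resMap d).1 hd.2 w hw
  have hsum := card_sup_mul_inf W (fx V (A.map L.subtype))
  have hsplit := card_map_mul A (resMap L W hW)
  have hbW := hb _ (elem_map hA (resMap L W hW))
  rw [meas, card_fx_resMap] at hbW
  have hcle := AddSubgroup.card_le_of_le hW0
  unfold meas at hm hmD
  rw [card_map_of_injective L.subtype_injective] at hm hmD
  rw [hsplit] at hm
  -- `|fx D| = |A'| |fx A|`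
  have h3 : Nat.card (fx V (D.map L.subtype)) =
      Nat.card (A.map (resMap L W hW)) * Nat.card (fx V (A.map L.subtype)) := by
    refine Nat.eq_of_mul_eq_mul_left (Nat.card_pos (α := D)) ?_
    rw [hmD, ← hm, hD]
    ring
  have hpos : 0 < Nat.card ↥(W ⊓ fx V (A.map L.subtype)) := Nat.card_pos
  have h4 : Nat.card W * Nat.card (fx V (A.map L.subtype)) ≤
      (Nat.card (A.map (resMap L W hW)) * Nat.card ↥(W ⊓ fx V (A.map L.subtype))) *
        Nat.card (fx V (A.map L.subtype)) := by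
    calc Nat.card W * Nat.card (fx V (A.map L.subtype))
        = Nat.card ↥(W ⊔ fx V (A.map L.subtype)) * Nat.card ↥(W ⊓ fx V (A.map L.subtype)) :=
          hsum.symm
      _ ≤ Nat.card (fx V (D.map L.subtype)) * Nat.card ↥(W ⊓ fx V (A.map L.subtype)) :=
          Nat.mul_le_mul_right _ hcle
      _ = _ := by rw [h3]; ring
  have heqW : Nat.card (A.map (resMap L W hW)) * Nat.card ↥(W ⊓ fx V (A.map L.subtype)) =
      Nat.card W := le_antisymm hbW (Nat.le_of_mul_le_mul_right h4 Nat.card_pos)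
  refine ⟨by rw [meas, card_map_of_injective L.subtype_injective]; exact hmD, ?_, ?_⟩
  · refine (AddSubgroup.eq_of_le_of_card_ge hW0 ?_).symm
    refine Nat.le_of_mul_le_mul_right ?_ hpos
    rw [hsum, h3, ← heqW]
    exact le_of_eq (by ring)
  · rw [meas, card_fx_resMap]
    exact heqW

/-- A member outside the kernel is faithful on `W`, `V = W + C_V(A)`, and its image is a member. -/
theorem mem_resMap (hbV : Bound p H V) (hb : Bound p ↥(resAct L W hW).range W) {A : Subgroup L}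
    (hA : Mem p V (A.map L.subtype)) (hnot : ¬ A ≤ (resMap L W hW).ker) :
    A ⊓ (resMap L W hW).ker = ⊥ ∧ W ⊔ fx V (A.map L.subtype) = ⊤ ∧
      Mem p W (A.map (resMap L W hW)) := by
  obtain ⟨h1, h2, h3⟩ := offender_ker hbV hb hA.elem hA.meas_eq
  have hD : A ⊓ (resMap L W hW).ker = ⊥ := by
    by_contra h0
    refine (hA.strict _ (map_mono inf_le_left)
      (fun h => h0 ((map_eq_bot_iff_of_injective _ L.subtype_injective).1 h))
      (fun h => hnot ?_)).ne h1
    exact (map_injective L.subtype_injective h).ge.trans inf_le_right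
  have htop : W ⊔ fx V (A.map L.subtype) = ⊤ := by
    rw [← h2, hD, Subgroup.map_bot]
    exact eq_top_iff.2 fun v _ a ha => by rw [mem_bot.1 ha, one_smul]
  refine ⟨hD, htop, ⟨fun h => hnot ((Subgroup.map_eq_bot_iff _).1 h),
    elem_map hA.elem _, h3, fun B hB hB0 hBA => ?_⟩⟩
  refine lt_of_le_of_ne (hb B ((elem_map hA.elem _).mono hB)) fun he => ?_
  set B1 := A ⊓ B.comap (resMap L W hW) with hB1
  have hB1map : B1.map (resMap L W hW) = B := by
    refine le_antisymm (map_le_iff_le_comap.2 inf_le_right) fun x hx => ?_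
    obtain ⟨a, ha, rfl⟩ := hB hx
    exact mem_map_of_mem _ ⟨ha, hx⟩
  have hlt := hA.strict (B1.map L.subtype) (map_mono inf_le_left)
    (fun h => hB0 (by rw [← hB1map, (map_eq_bot_iff_of_injective _ L.subtype_injective).1 h,
      Subgroup.map_bot]))
    (fun h => hBA (le_antisymm hB (by
      rw [← hB1map]
      exact map_mono (map_injective L.subtype_injective h).ge)))
  refine hlt.ne ?_
  have hk : B1 ⊓ (resMap L W hW).ker = ⊥ :=
    eq_bot_iff.2 (hD ▸ inf_le_inf_right _ inf_le_left)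
  have hsum1 : W ⊔ fx V (B1.map L.subtype) = ⊤ :=
    eq_top_iff.2 (htop ▸ sup_le_sup_left (fx_anti (map_mono inf_le_left)) _)
  have hc1 := card_sup_mul_inf W (fx V (B1.map L.subtype))
  rw [hsum1, AddSubgroup.card_top] at hc1
  rw [← hB1map, meas, card_fx_resMap] at he
  have hcard := card_map_mul B1 (resMap L W hW)
  rw [hk, Subgroup.card_bot, mul_one] at hcard
  rw [meas, card_map_of_injective L.subtype_injective, hcard]
  refine Nat.eq_of_mul_eq_mul_right
    (Nat.card_pos (α := ↥(W ⊓ fx V (B1.map L.subtype)))) ?_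
  rw [hc1, mul_right_comm, he]

variable [Fact p.Prime]

/-- The image of a group with a subgroup above a Sylow subgroup containing all proper overgroups. -/
theorem hyp_image {K : Type*} [Group K] (f : L →* K) (hf : Function.Surjective f) (R : Sylow p L)
    {M : Subgroup L} (hM : M ≠ ⊤) (hRM : (R : Subgroup L) ≤ M)
    (hmax : ∀ L' : Subgroup L, L' ≠ ⊤ → (R : Subgroup L) ≤ L' → L' ≤ M) (hker : f.ker ≤ M)
    (hnorm : ∀ N : Subgroup L, N.Normal → N ≤ R → N ≤ f.ker) :
    Hyp p K ∧ UMax p (M.map f) := by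
  have : Finite K := Finite.of_surjective _ hf
  have hU : UMax p (M.map f) := by
    refine UMax.of_sylow (fun h => hM ?_) (R.mapSurjective hf) (map_mono hRM) fun L' hL' hRL' => ?_
    · rw [← comap_map_eq_self (f := f) (H := M) hker, h, comap_top]
    · rw [← map_comap_eq_self_of_surjective hf L']
      refine map_mono (hmax _ (fun h => hL' ?_) (map_le_iff_le_comap.1 hRL'))
      rw [← map_comap_eq_self_of_surjective hf L', h, map_top_of_surjective _ hf]
  refine ⟨⟨fun N hN hNp => ?_, _, hU⟩, hU⟩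
  have : (N.comap f).Normal := hN.comap _
  set N0 := N.comap f with hN0
  have hcov : ∀ g ∈ N0, ∃ r ∈ (R : Subgroup L) ⊓ N0, g * r⁻¹ ∈ f.ker := by
    intro g hg
    obtain ⟨Q, hQ⟩ := hNp.exists_le_sylow
    obtain ⟨c, hc⟩ := MulAction.exists_smul_eq K Q (R.mapSurjective hf)
    have h1 : f g ∈ ((c • Q : Sylow p K) : Subgroup K) := by
      rw [coe_smul_sylow, mem_cnj]
      exact hQ (by simpa using hN.conj_mem _ hg c⁻¹)
    rw [hc] at h1
    obtain ⟨r, hr, hrg⟩ := h1
    refine ⟨r, ⟨hr, ?_⟩, ?_⟩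
    · show f r ∈ N
      rw [hrg]
      exact hg
    · rw [MonoidHom.mem_ker, map_mul, map_inv, hrg, mul_inv_cancel]
  set Rn := (R : Subgroup L) ⊓ N0 with hRn
  have hnorm' : normalizer (Rn : Set L) = ⊤ := by
    by_contra hne
    refine hM (eq_top_iff.2 ?_)
    rw [← FusionMod.frattini_inf R N0]
    refine sup_le (hmax _ hne (FusionMod.le_normalizer_inf R N0)) fun g hg => ?_
    obtain ⟨r, hr, hgr⟩ := hcov g hg
    simpa using M.mul_mem (hker hgr) (hRM hr.1)
  have hle := hnorm Rn (normalizer_eq_top_iff.1 hnorm') inf_le_left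
  refine (eq_bot_iff_forall _).2 fun x hx => ?_
  obtain ⟨g, rfl⟩ := hf x
  obtain ⟨r, hr, hgr⟩ := hcov g hx
  rw [← MonoidHom.mem_ker]
  simpa using mul_mem hgr (hle hr)

/-- An invariant class of nontrivial subgroups meeting the subgroups of `R₀`. -/
structure GoodClass (R₀ : Subgroup H) (𝒞 : Subgroup H → Prop) : Prop where
  ne_bot : ∀ C, 𝒞 C → C ≠ ⊥
  conj : ∀ C g, 𝒞 C → 𝒞 (cnj g C)
  exists_le : ∃ C, 𝒞 C ∧ C ≤ R₀

/-- The overgroup reduction. -/
theorem exists_reduced (h : Hyp p H) (hz : Moved p H V) {𝒞₀ : Subgroup H → Prop}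
    {M X R₀ : Subgroup H} (hC₀ : GoodClass R₀ 𝒞₀)
    (hM : UMax p M) (hX : X ≠ ⊤) (hXM : ¬ X ≤ M) (hR₀ : IsPGroup p R₀) (hR₀X : R₀ ≤ X)
    (hR₀M : R₀ ≤ M) :
    ∃ (L : Subgroup H) (R : Sylow p L) (T : Sylow p H) (W : AddSubgroup V)
      (hW : ∀ g ∈ L, ∀ w ∈ W, g • w ∈ W),
      L ≠ ⊤ ∧ R₀ ≤ (R : Subgroup L).map L.subtype ∧ (R : Subgroup L).map L.subtype ≤ T ∧
      (T : Subgroup H) ≤ M ∧ (resMap L W hW).ker ≤ M.subgroupOf L ∧
      Hyp p ↥(resAct L W hW).range ∧ UMax p ((M.subgroupOf L).map (resMap L W hW)) ∧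
      Moved p ↥(resAct L W hW).range W ∧
      (∀ 𝒞 : Subgroup H → Prop, GoodClass R₀ 𝒞 →
        ∃ C : Subgroup L, C ≤ R ∧ 𝒞 (C.map L.subtype) ∧ ¬ C ≤ (resMap L W hW).ker) := by
  suffices hmain : ∀ (k : ℕ) (L R : Subgroup H), Nat.card H - Nat.card R = k → L ≠ ⊤ → ¬ L ≤ M →
      IsPGroup p R → R ≤ L → R ≤ M → R₀ ≤ R →
      ∃ (L0 R : Subgroup H) (T : Sylow p H), L0 ≠ ⊤ ∧ ¬ L0 ≤ M ∧ R ≤ L0 ∧ R₀ ≤ R ∧
        R ≤ (T : Subgroup H) ∧ (T : Subgroup H) ≤ M ∧ IsPGroup p R ∧
        (∀ P : Subgroup H, IsPGroup p P → P ≤ L0 → R ≤ P → P = R) ∧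
        (∀ L' : Subgroup H, L' < L0 → R ≤ L' → L' ≤ M) ∧
        (∀ 𝒞 : Subgroup H → Prop, GoodClass R₀ 𝒞 →
          ∀ x : H, (∀ C, 𝒞 C → C ≤ R → cnj x C ≤ R) → x ∈ M) by
    obtain ⟨L0, R, T, hL0, hL0M, hRL, hR₀R, hRT, hTM, hRp, hsyl, hmin, hJ⟩ :=
      hmain _ X R₀ rfl hX hXM hR₀ hR₀X hR₀M le_rfl
    let RS : Sylow p L0 :=
      { toSubgroup := R.subgroupOf L0
        isPGroup' := hRp.comap_subtype
        is_maximal' := fun {Q} hQ hle => by
          have h1 := hsyl (Q.map L0.subtype) (hQ.map _) (map_subtype_le Q) (fun x hx =>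
            ⟨⟨x, hRL hx⟩, hle (show (⟨x, hRL hx⟩ : L0) ∈ R.subgroupOf L0 from hx), rfl⟩)
          rw [← h1, subgroupOf, comap_map_eq_self_of_injective L0.subtype_injective] }
    have hRS : ((RS : Subgroup L0).map L0.subtype) = R := map_subgroupOf_eq_of_le hRL
    obtain ⟨z, hzT, hzm⟩ := hz.forall T
    set W := AddSubgroup.closure {v : V | ∃ g ∈ L0, v = g • z} with hWdef
    have hW : ∀ g ∈ L0, ∀ w ∈ W, g • w ∈ W := by
      intro g hg w hw
      have hle : W ≤ W.comap (DistribSMul.toAddMonoidHom V g) := by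
        rw [hWdef, AddSubgroup.closure_le]
        rintro _ ⟨l, hl, rfl⟩
        show g • l • z ∈ W
        exact AddSubgroup.subset_closure ⟨g * l, L0.mul_mem hg hl, (mul_smul g l z).symm⟩
      exact hle hw
    have hzW : z ∈ W := AddSubgroup.subset_closure ⟨1, L0.one_mem, (one_smul H z).symm⟩
    have hstab : ∀ g : H, g • z = z → g ∈ M := fun g hg => hM.stab_le hTM hzT hzm hg
    have hKM : (resMap L0 W hW).ker ≤ M.subgroupOf L0 := fun g hg =>
      hstab _ ((mem_ker_resMap g).1 hg z hzW)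
    have hMtop : M.subgroupOf L0 ≠ ⊤ := fun h' => hL0M (subgroupOf_eq_top.1 h')
    have hRSM : (RS : Subgroup L0) ≤ M.subgroupOf L0 := fun x hx => hTM (hRT hx)
    have hmax : ∀ L' : Subgroup L0, L' ≠ ⊤ → (RS : Subgroup L0) ≤ L' → L' ≤ M.subgroupOf L0 := by
      intro L' hL' hRL' x hx
      refine hmin (L'.map L0.subtype) (lt_of_le_of_ne (map_subtype_le L') fun he => hL' ?_)
        (fun r hr => ⟨⟨r, hRL hr⟩, hRL' hr, rfl⟩) (mem_map_of_mem _ hx)
      rw [← comap_map_eq_self_of_injective L0.subtype_injective L', he]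
      exact subgroupOf_self L0
    obtain ⟨hhyp, humax⟩ := hyp_image (p := p) (resMap L0 W hW) resMap_surjective RS hMtop hRSM
      hmax hKM fun N hN hNR g hg => by
        rw [mem_ker_resMap]
        have hle : W ≤ (DistribSMul.toAddMonoidHom V (g : H)).eqLocus (AddMonoidHom.id V) := by
          rw [hWdef, AddSubgroup.closure_le]
          rintro _ ⟨l, hl, rfl⟩
          have h1 := hzT _ (hRT (hNR (hN.conj_mem g hg (⟨l, hl⟩ : L0)⁻¹)))
          show (g : H) • l • z = l • z
          simp only [Subgroup.subtype_apply, coe_mul, coe_inv, inv_inv, mul_smul, inv_smul_eq_iff] at h1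
          exact h1
        exact fun w hw => hle hw
    refine ⟨L0, RS, T, W, hW, hL0, hRS.symm ▸ hR₀R, hRS.symm ▸ hRT, hTM, hKM, hhyp, humax, ?_, ?_⟩
    · refine ⟨RS.mapSurjective resMap_surjective, ⟨z, hzW⟩, ?_, ?_⟩
      · rintro _ ⟨r, hr, rfl⟩
        exact Subtype.ext (hzT _ (hRT hr))
      · obtain ⟨x, hx, hxM⟩ := SetLike.not_le_iff_exists.1 hL0M
        exact ⟨resMap L0 W hW ⟨x, hx⟩, fun he => hxM (hstab x (congrArg Subtype.val he))⟩
    · intro 𝒞 h𝒞
      by_contra! hall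
      refine hMtop (eq_top_iff.2 ?_)
      rw [← FusionMod.frattini_inf RS (resMap L0 W hW).ker]
      refine sup_le (fun y hy => hJ 𝒞 h𝒞 _ fun C hC hCR => ?_) hKM
      rintro _ ⟨a, ha, rfl⟩
      have hCK : C.subgroupOf L0 ≤ (resMap L0 W hW).ker := by
        refine hall _ (fun b hb => hCR hb) ?_
        rwa [map_subgroupOf_eq_of_le (hCR.trans hRL)]
      have h1 : (⟨a, hRL (hCR ha)⟩ : L0) ∈ (RS : Subgroup L0) ⊓ (resMap L0 W hW).ker :=
        ⟨hCR ha, hCK (show (⟨a, hRL (hCR ha)⟩ : L0) ∈ C.subgroupOf L0 from ha)⟩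
      exact ((mem_normalizer_iff.1 hy _).1 h1).1
  intro k
  induction k using Nat.strong_induction_on with
  | _ k ih =>
  intro L R hk hL hLM hR hRL hRM hR₀R
  by_contra hcon
  have hstep : ∀ L' R' : Subgroup H, L' ≠ ⊤ → R' ≤ L' → R' ≤ M → IsPGroup p R' → R < R' →
      L' ≤ M := by
    intro L' R' h2 h3 h4 h5 hlt
    by_contra hL'M
    have hc : Nat.card R < Nat.card R' :=
      lt_of_le_of_ne (card_le_of_le hlt.le) fun he => hlt.ne (eq_of_le_of_card_ge hlt.le he.ge)
    have hH' : Nat.card R' ≤ Nat.card H := card_le_card_group R'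
    exact hcon (ih _ (by omega) L' R' rfl h2 hL'M h5 h3 h4 (hR₀R.trans hlt.le))
  have hmax : ∀ P : Subgroup H, IsPGroup p P → P ≤ L → P ≤ M → R ≤ P → P = R := by
    intro P hP hPL hPM hRP
    by_contra hne
    exact hLM (hstep L P hL hPL hPM hP (lt_of_le_of_ne hRP (Ne.symm hne)))
  obtain ⟨T, hRT, hTM⟩ := exists_sylow_le hM.2.1 hR hRM
  have hRT' : R < T := lt_of_le_of_ne hRT fun he => hLM (hM.2.2 T hTM L hL (he ▸ hRL))
  have hJall : ∀ 𝒞 : Subgroup H → Prop, GoodClass R₀ 𝒞 →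
      normalizer (R : Set H) ≤ normalizer ((sSup {C | 𝒞 C ∧ C ≤ R} : Subgroup H) : Set H) ∧
      normalizer ((sSup {C | 𝒞 C ∧ C ≤ R} : Subgroup H) : Set H) ≤ M ∧
      ∀ x : H, (∀ C, 𝒞 C → C ≤ R → cnj x C ≤ R) → x ∈ M := by
    intro 𝒞 h𝒞
    set J : Subgroup H := sSup {C | 𝒞 C ∧ C ≤ R} with hJdef
    have hJR : J ≤ R := sSup_le fun C hC => hC.2
    have hJne : J ≠ ⊥ := by
      obtain ⟨C, hC, hCR⟩ := h𝒞.exists_le
      intro hbot
      exact h𝒞.ne_bot C hC (le_bot_iff.1 (hbot ▸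
        le_sSup (show C ∈ {C | 𝒞 C ∧ C ≤ R} from ⟨hC, hCR.trans hR₀R⟩)))
    have hJn : normalizer (J : Set H) ≠ ⊤ := fun h' =>
      hJne (h.core J (normalizer_eq_top_iff.1 h') (hR.to_le hJR))
    have hJinv : ∀ x : H, (∀ C, 𝒞 C → C ≤ R → cnj x C ≤ R) → x ∈ normalizer (J : Set H) := by
      intro x hx
      refine mem_normalizer_iff_map_conj_eq.2
        (Subgroup.eq_of_le_of_card_ge ?_ (card_cnj x J).ge)
      rw [map_le_iff_le_comap]
      exact sSup_le fun C hC => map_le_iff_le_comap.1 (le_sSup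
        (show cnj x C ∈ {C | 𝒞 C ∧ C ≤ R} from ⟨h𝒞.conj C x hC.1, hx C hC.1 hC.2⟩))
    have hNR : normalizer (R : Set H) ≤ normalizer (J : Set H) := fun x hx =>
      hJinv x fun C _ hC => by
        rintro _ ⟨a, ha, rfl⟩
        exact (mem_normalizer_iff.1 hx a).1 (hC ha)
    have hNM : normalizer (J : Set H) ≤ M :=
      hstep _ ((T : Subgroup H) ⊓ normalizer (R : Set H)) hJn (inf_le_right.trans hNR)
        (inf_le_left.trans hTM) (T.2.to_le inf_le_left) (ConjFunctor.lt_inf_normalizer T.2 hRT')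
    exact ⟨hNR, hNM, fun x hx => hNM (hJinv x hx)⟩
  obtain ⟨hNR, hNM, -⟩ := hJall _ hC₀
  have hsyl : ∀ P : Subgroup H, IsPGroup p P → P ≤ L → R ≤ P → P = R := by
    intro P hP hPL hRP
    by_contra hne
    have hlt := ConjFunctor.lt_inf_normalizer hP (lt_of_le_of_ne hRP (Ne.symm hne))
    exact hlt.ne (hmax _ (hP.to_le inf_le_left) (inf_le_left.trans hPL)
      (inf_le_right.trans (hNR.trans hNM)) hlt.le).symm
  obtain ⟨L0, ⟨hL0L, hRL0, hL0M⟩, hL0min⟩ := (wellFounded_lt (α := Subgroup H)).has_min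
    {Y | Y ≤ L ∧ R ≤ Y ∧ ¬ Y ≤ M} ⟨L, le_rfl, hRL, hLM⟩
  refine hcon ⟨L0, R, T, fun h' => hL (top_unique (h' ▸ hL0L)), hL0M, hRL0, hR₀R, hRT, hTM, hR,
    fun P hP hPL hRP => hsyl P hP (hPL.trans hL0L) hRP, fun L' hL' hRL' => ?_,
    fun 𝒞 h𝒞 => (hJall 𝒞 h𝒞).2.2⟩
  by_contra hc
  exact hL0min L' ⟨hL'.le.trans hL0L, hRL', hc⟩ hL'

end

end Cfsg.Agent.Lib.FFMin
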